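import Groth.Agent.PnEuler.Chart
import Groth.Agent.OmegaSheaf.ExactLocal
import Groth.Agent.PnCoh.MulVar

/-!
# The Euler sequence `0 → Ω → O(-1)^{n+1} → O → 0`
-/

set_option autoImplicit false

universe u

open CategoryTheory CategoryTheory.Limits AlgebraicGeometry Opposite TopologicalSpace MvPolynomial
open Groth.Ega2Proj

noncomputable section

attribute [local instance] HasFiniteBiproducts.of_hasFiniteProducts

namespace Groth.PnEuler

variable {n : ℕ} {R : Type u} [CommRing R]

local notation "X₀" => CohB1.ProjSpace n R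
local notation "𝔓" => CohB1.polyGrading n R
local notation "A₀" => MvPolynomial (Fin (n + 1)) R

theorem val_add {d : ℤ} {U : (X₀).Opens} (s t : Γ(Twist.twistProjSpace n R d, U))
    (x : ProjectiveSpectrum 𝔓) (hx : x ∈ U) : val (s + t) x hx = val s x hx + val t x hx := rfl

theorem val_zero {d : ℤ} {U : (X₀).Opens} (x : ProjectiveSpectrum 𝔓) (hx : x ∈ U) :
    val (0 : Γ(Twist.twistProjSpace n R d, U)) x hx = 0 := rfl

theorem val_sum {d : ℤ} {U : (X₀).Opens} {ι : Type} (S : Finset ι) (f : ι → Γ(Twist.twistProjSpace n R d, U))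
    (x : ProjectiveSpectrum 𝔓) (hx : x ∈ U) :
    val (∑ i ∈ S, f i) x hx = ∑ i ∈ S, val (f i) x hx :=
  map_sum (AddMonoidHom.mk' (fun s => val s x hx) fun s t => val_add s t x hx) f S

theorem exists_mulX (i : Fin (n + 1)) :
    ∃ μ : Twist.twistProjSpace n R (-1) ⟶ Twist.twistProjSpace n R 0,
      ∀ (U : (X₀).Opens) (s : Γ(Twist.twistProjSpace n R (-1), U)) (x : ProjectiveSpectrum 𝔓) (hx : x ∈ U),
        val (μ.app U s) x hx = algebraMap A₀ (L x) (MvPolynomial.X i) * val s x hx := by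
  let g (U : (X₀).Opens) : Γ(Twist.twistProjSpace n R (-1), U) →+ Γ(Twist.twistProjSpace n R 0, U) :=
    AddMonoidHom.mk'
      (fun s => Tilde.mulFrac (ℳ := 𝔓) (Groth.Chow.ToPn.X_mem i) (SetLike.GradedOne.one_mem : (1 : A₀) ∈ 𝔓 0)
        (n := -1) (n' := 0) (by omega) (fun x _ => one_notMem x) s)
      fun a b => Tilde.tval_ext (𝒜 := 𝔓) (ℳ := 𝔓) fun x hx => smul_add _ _ _
  have hg : ∀ (U : (X₀).Opens) (s : Γ(Twist.twistProjSpace n R (-1), U)) (x : ProjectiveSpectrum 𝔓)
      (hx : x ∈ U), val (g U s) x hx = algebraMap A₀ (L x) (MvPolynomial.X i) * val s x hx :=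
    fun U s x hx => by
      rw [← Localization.mk_one_eq_algebraMap]
      rfl
  let η : (Twist.twistProjSpace n R (-1)).presheaf ⟶ (Twist.twistProjSpace n R 0).presheaf :=
    { app := fun U => AddCommGrpCat.ofHom (g U.unop)
      naturality := fun _ _ _ => rfl }
  refine ⟨⟨PresheafOfModules.homMk η (fun U r s => ?_)⟩, hg⟩
  have key : ∀ (r : Γ(X₀, U.unop)) (s : Γ(Twist.twistProjSpace n R (-1), U.unop)),
      g U.unop (r • s) = r • g U.unop s := fun r s => val_ext fun x hx => by
    rw [hg, val_smul, val_smul, hg]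
    ring
  exact key r s

/-- Multiplication by `X_i`. -/
def mulX (i : Fin (n + 1)) : Twist.twistProjSpace n R (-1) ⟶ Twist.twistProjSpace n R 0 :=
  (exists_mulX i).choose

theorem val_mulX (i : Fin (n + 1)) (U : (X₀).Opens) (s : Γ(Twist.twistProjSpace n R (-1), U))
    (x : ProjectiveSpectrum 𝔓) (hx : x ∈ U) :
    val ((mulX i).app U s) x hx = algebraMap A₀ (L x) (MvPolynomial.X i) * val s x hx :=
  (exists_mulX i).choose_spec U s x hx

theorem mulX_gg (i j : Fin (n + 1)) :
    (mulX (R := R) i).app (dOp j) (gg j) = tt (R := R) j i • ee (dOp (R := R) j) :=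
  val_ext fun x hx => by
    rw [val_mulX, val_smul, val_gg, evalPt_tt, val_ee, mul_one, ← Localization.mk_one_eq_algebraMap]
    change Localization.mk _ _ * Localization.mk _ _ = _
    rw [Localization.mk_mul]
    exact congrArg₂ Localization.mk (mul_one _) (Subtype.ext (one_mul _))

/-- Euler's identity. -/
theorem sum_mulX_dFun (U : (X₀).Opens) (r : Γ(X₀, U)) :
    ∑ i, (mulX i).app U (dFun i U r) = 0 := by
  refine val_ext fun x hx => ?_
  rw [val_sum, val_zero]
  simp only [val_mulX, val_dFun]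
  obtain ⟨d, e, a, s, hs, ha, hse, hdeg, hq⟩ := exists_lfrac_of_mem_twistAt (evalPt_mem U x hx r)
  have hss : s * s ∉ x.asHomogeneousIdeal := x.asHomogeneousIdeal.toIdeal.primeCompl.mul_mem hs hs
  rw [hq]
  simp only [locDer_lfrac _ x a hs hss]
  refine ((isUnit_algebraMap x hs).mul (isUnit_algebraMap x hs)).mul_left_injective ?_
  beta_reduce
  rw [zero_mul, Finset.sum_mul, ← map_mul]
  simp only [mul_assoc, lfrac_mul_algebraMap, ← map_mul, ← map_sum]
  rw [← map_zero (algebraMap A₀ (L x))]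
  congr 1
  rcases hdeg with hd | rfl
  · obtain rfl : d = e := by omega
    simp only [mul_sub, Finset.sum_sub_distrib, ← mul_assoc]
    rw [← Finset.sum_mul, ((mem_homogeneousSubmodule _ _).1 ha).sum_X_mul_pderiv]
    rw [show ∑ i : Fin (n + 1), MvPolynomial.X i * a * pderiv i s = a * ∑ i, MvPolynomial.X i * pderiv i s by
      rw [Finset.mul_sum]; exact Finset.sum_congr rfl fun i _ => by ring,
      ((mem_homogeneousSubmodule _ _).1 hse).sum_X_mul_pderiv]
    simp only [nsmul_eq_mul]
    ring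
  · simp

variable (n R) in
/-- The constant family `O(-1)`. -/
abbrev fam : Fin (n + 1) → (CohB1.ProjSpace n R).Modules := fun _ => Twist.twistProjSpace n R (-1)

variable (n R) in
/-- The middle term `O(-1)^{n+1}`. -/
abbrev mid : (CohB1.ProjSpace n R).Modules := ⨁ fam n R

variable (n R) in
/-- The projections. -/
abbrev prj (i : Fin (n + 1)) : mid n R ⟶ Twist.twistProjSpace n R (-1) := biproduct.π (fam n R) i

variable (n R) in
/-- The inclusions. -/
abbrev inj (i : Fin (n + 1)) : Twist.twistProjSpace n R (-1) ⟶ mid n R := biproduct.ι (fam n R) i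

theorem exists_toTwist (i : Fin (n + 1)) :
    ∃ α : Omega.sheaf (CohB1.ProjSpace.toSpec n R) ⟶ Twist.twistProjSpace n R (-1),
      ∀ (U : (X₀).Opens) (r : Γ(X₀, U)),
        α.app U ((OmegaSh.dOmega (CohB1.ProjSpace.toSpec n R)).app U r) = dFun i U r := by
  obtain ⟨α, hα, -⟩ := Groth.OmegaSheaf.isUniversal_dOmega (CohB1.ProjSpace.toSpec n R) _ (der i)
  refine ⟨α, fun U r => ?_⟩
  exact (congr($(hα).d (X := op U) r) : _)

/-- The components of `Ω → O(-1)^{n+1}`. -/
def toTwist (i : Fin (n + 1)) :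
    Omega.sheaf (CohB1.ProjSpace.toSpec n R) ⟶ Twist.twistProjSpace n R (-1) :=
  (exists_toTwist i).choose

theorem toTwist_d (i : Fin (n + 1)) (U : (X₀).Opens) (r : Γ(X₀, U)) :
    (toTwist i).app U ((OmegaSh.dOmega (CohB1.ProjSpace.toSpec n R)).app U r) = dFun i U r :=
  (exists_toTwist i).choose_spec U r

variable (n R) in
/-- `Ω → O(-1)^{n+1}`. -/
def iota : Omega.sheaf (CohB1.ProjSpace.toSpec n R) ⟶ mid n R :=
  biproduct.lift fun i => toTwist i

variable (n R) in
/-- `O(-1)^{n+1} → O(0)`. -/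
def eps : mid n R ⟶ Twist.twistProjSpace n R 0 := biproduct.desc fun i => mulX i

theorem app_sum {M N : (X₀).Modules} {ι : Type} (S : Finset ι) (φ : ι → (M ⟶ N)) (U : (X₀).Opens)
    (m : Γ(M, U)) : (∑ i ∈ S, φ i).app U m = ∑ i ∈ S, (φ i).app U m :=
  map_sum (AddMonoidHom.mk' (fun φ : M ⟶ N => φ.app U m) fun _ _ => rfl) φ S

theorem iota_eps : iota n R ≫ eps n R = 0 := by
  have h := biproduct.lift_desc (f := fam n R) (g := fun i => toTwist (R := R) i)
    (h := fun i => mulX (R := R) i)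
  refine h.trans ?_
  refine Groth.OmegaSheaf.hom_ext_d _ fun c s => ?_
  rw [app_sum]
  simp only [Scheme.Modules.Hom.comp_app, CommRingCat.comp_apply, AddCommGrpCat.hom_comp,
    AddMonoidHom.comp_apply, ConcreteCategory.comp_apply, toTwist_d]
  refine Eq.trans ?_ (sum_mulX_dFun c.U s)
  rfl

variable (n R) in
/-- The Euler sequence. -/
def eulerSeq : ShortComplex (CohB1.ProjSpace n R).Modules :=
  ShortComplex.mk (iota n R) (eps n R) iota_eps

instance isQCoh_twist_proj (d : ℤ) : (Twist.twistProjSpace n R d).IsQuasicoherent :=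
  Groth.Ega2Proj.isQuasicoherent_twist _ _

instance isQCoh_mid : (mid n R).IsQuasicoherent := by
  have : ∀ j, ((Discrete.functor fun _ : Fin (n + 1) => Twist.twistProjSpace n R (-1)).obj j).IsQuasicoherent :=
    fun _ => isQCoh_twist_proj _
  exact Groth.QCohMod.isQCoh_of_isColimit _ _ (biproduct.isColimit _)

theorem comp_mid_eq (j : Fin (n + 1)) (U : (X₀).Opens) (m : Γ(mid n R, U)) :
    m = ∑ i, (inj n R i).app U
      ((prj n R i).app U m) := by
  have h := congr($(biproduct.total (f := fam n R)).app U m)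
  rw [app_sum] at h
  exact h.symm

theorem eps_app (U : (X₀).Opens) (m : Γ(mid n R, U)) :
    (eps n R).app U m = ∑ i : Fin (n + 1),
      (mulX i).app U ((prj n R i).app U m) := by
  conv_lhs => rw [comp_mid_eq 0 U m, map_sum]
  refine Finset.sum_congr rfl fun i _ => ?_
  exact congr($(biproduct.ι_desc (f := fam n R) (fun k : Fin (n + 1) => mulX (R := R) k) i).app U _)

/-- The sections of `Ω` on a chart are the combinations of the `d (X_l / X_j)`. -/
theorem exists_comb (j : Fin (n + 1)) (ω : Γ(Omega.sheaf (CohB1.ProjSpace.toSpec n R), dOp j)) :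
    ∃ c : Fin (n + 1) → Γ(X₀, dOp j),
      ω = ∑ l, c l • (OmegaSh.dOmega (CohB1.ProjSpace.toSpec n R)).app (dOp j) (tt j l) := by
  let f := CohB1.ProjSpace.toSpec n R
  let D := (OmegaSh.dOmega f).app (dOp j)
  let N := Submodule.span Γ(X₀, dOp j) (Set.range fun l => D (tt j l))
  have hmul : ∀ a b, D (a * b) = a • D b + b • D a := fun a b =>
    (OmegaSh.dOmega f).d_mul (X := op (dOp j)) a b
  have hscal : ∀ r, D (scal (dOp j) r) = 0 := fun r => by
    have h1 : (OmegaSh.dOmega f).app (f ⁻¹ᵁ ⊤) (f.app ⊤ ((Scheme.ΓSpecIso (CommRingCat.of R)).inv r)) = 0 :=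
      (OmegaSh.dOmega f).d_app (X := op ⊤) ((Scheme.ΓSpecIso (CommRingCat.of R)).inv r)
    have h2 := congrArg (Groth.QCohMod.res (Omega.sheaf f) (le_top : dOp (R := R) j ≤ f ⁻¹ᵁ ⊤)) h1
    erw [Groth.OmegaSheaf.res_der] at h2
    exact h2.trans (map_zero _)
  have hN : ∀ s, D s ∈ N := fun s => by
    obtain ⟨p, rfl⟩ := exists_eval₂_eq j s
    induction p using MvPolynomial.induction_on with
    | C r => rw [eval₂_C, hscal]; exact zero_mem _
    | add p q hp hq => rw [eval₂_add, map_add]; exact add_mem hp hq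
    | mul_X p l hp =>
      rw [eval₂_mul, eval₂_X, hmul]
      exact add_mem (Submodule.smul_mem _ _ (Submodule.subset_span ⟨l, rfl⟩)) (Submodule.smul_mem _ _ hp)
  have hω : ω ∈ N := by
    have h := Groth.OmegaSheaf.span_d f (U := dOp j) (V := ⊤) (isAffineOpen_top _) (isAffineOpen_dOp j) le_top
    refine Submodule.span_le.2 ?_ (h.ge (trivial : ω ∈ (⊤ : Submodule Γ(X₀, dOp j) _)))
    rintro _ ⟨s, rfl⟩
    exact hN s
  obtain ⟨c, hc⟩ := (Submodule.mem_span_range_iff_exists_fun _).1 hω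
  exact ⟨c, hc.symm.trans rfl⟩

theorem pi_iota_comb (i : Fin (n + 1)) (j : Fin (n + 1)) (c : Fin (n + 1) → Γ(X₀, dOp j)) :
    (prj n R i).app (dOp j)
      ((iota n R).app (dOp j)
        (∑ l, c l • (OmegaSh.dOmega (CohB1.ProjSpace.toSpec n R)).app (dOp j) (tt j l))) =
      (c i - (if j = i then 1 else 0) * ∑ l, c l * tt (R := R) j l) • gg (R := R) j := by
  have h := congr($(biproduct.lift_π (f := fam n R) (fun k : Fin (n + 1) => toTwist (R := R) k) i).app (dOp j)
    (∑ l, c l • (OmegaSh.dOmega (CohB1.ProjSpace.toSpec n R)).app (dOp j) (tt j l)))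
  refine Eq.trans h ?_
  rw [map_sum]
  simp only [Scheme.Modules.Hom.app_smul, toTwist_d, dFun_tt, smul_smul]
  rw [← Finset.sum_smul]
  congr 1
  simp only [mul_sub, Finset.sum_sub_distrib, mul_ite, mul_one, mul_zero, Finset.sum_ite_eq',
    Finset.mem_univ, if_true, Finset.mul_sum]
  congr 1
  exact Finset.sum_congr rfl fun l _ => by split_ifs <;> ring

theorem tt_sum_split (j : Fin (n + 1)) (c : Fin (n + 1) → Γ(X₀, dOp j)) :
    ∑ l, (mulX l).app (dOp j) (c l • gg (R := R) j) = (∑ l, c l * tt (R := R) j l) • ee (dOp (R := R) j) := by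
  rw [Finset.sum_smul]
  refine Finset.sum_congr rfl fun l _ => ?_
  rw [Scheme.Modules.Hom.app_smul, mulX_gg, smul_smul]

theorem gg_inj (j : Fin (n + 1)) {a b : Γ(X₀, dOp (R := R) j)} (h : a • gg (R := R) j = b • gg (R := R) j) : a = b :=
  (gen_gg j).smul_inj le_rfl (by rw [Groth.PicAux.res_self]; exact h)

/-- The Euler sequence is short exact. -/
theorem shortExact_eulerSeq : (eulerSeq n R).ShortExact := by
  have hx : ∀ x : X₀, ∃ j, x ∈ dOp (R := R) j := fun x =>
    Opens.mem_iSup.1 ((iSup_dOp (n := n) (R := R)).ge (Opens.mem_top x))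
  have hc : ∀ (j : Fin (n + 1)) (a : Γ(Twist.twistProjSpace n R (-1), dOp j)), ∃ c, a = c • gg j :=
    fun j a => by
      obtain ⟨c, hc⟩ := (gen_gg j).exists_coeff le_rfl a
      rw [Groth.PicAux.res_self] at hc
      exact ⟨c, hc⟩
  have hmono : Mono (iota n R) := by
    refine Groth.OmegaSheaf.mono_of_affine_cover _ fun x => ?_
    obtain ⟨j, hj⟩ := hx x
    refine ⟨dOp j, isAffineOpen_dOp j, hj, (injective_iff_map_eq_zero _).2 fun ω hω => ?_⟩
    obtain ⟨c, rfl⟩ := exists_comb j ω
    have h : ∀ l, l ≠ j → c l = 0 := fun l hl => by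
      have h1 := pi_iota_comb l j c
      rw [hω, map_zero, if_neg (Ne.symm hl), zero_mul, sub_zero] at h1
      exact gg_inj j (h1.symm.trans (zero_smul _ _).symm)
    refine Finset.sum_eq_zero fun l _ => ?_
    rcases eq_or_ne l j with rfl | hl
    · have h1 : (OmegaSh.dOmega (CohB1.ProjSpace.toSpec n R)).app (dOp l) (tt l l) = 0 := by
        rw [tt_self]
        exact (OmegaSh.dOmega (CohB1.ProjSpace.toSpec n R)).d_one (op (dOp l))
      rw [h1, smul_zero]
    · rw [h l hl, zero_smul]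
  have hepi : Epi (eps n R) := by
    refine Groth.OmegaSheaf.epi_of_affine_cover _ fun x => ?_
    obtain ⟨j, hj⟩ := hx x
    refine ⟨dOp j, isAffineOpen_dOp j, hj, fun t => ?_⟩
    obtain ⟨r, hr⟩ := (gen_ee (dOp (R := R) j)).exists_coeff le_rfl t
    rw [Groth.PicAux.res_self] at hr
    refine ⟨(inj n R j).app (dOp j)
      (r • gg j), ?_⟩
    refine (congr($(biproduct.ι_desc (f := fam n R) (fun k : Fin (n + 1) => mulX (R := R) k) j).app (dOp j)
      (r • gg j))).trans ?_
    rw [Scheme.Modules.Hom.app_smul, mulX_gg, tt_self, one_smul, hr]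
  have hex : (eulerSeq n R).Exact := by
    haveI : (eulerSeq n R).X₂.IsQuasicoherent := isQCoh_mid
    haveI : (eulerSeq n R).X₃.IsQuasicoherent := isQCoh_twist_proj 0
    refine Groth.OmegaSheaf.exact_of_affine_cover _ fun x => ?_
    obtain ⟨j, hj⟩ := hx x
    refine ⟨dOp j, isAffineOpen_dOp j, hj, fun m hm => ?_⟩
    choose c hc' using fun l : Fin (n + 1) => hc j
      ((prj n R l).app (dOp j) m)
    refine ⟨∑ l, c l • (OmegaSh.dOmega (CohB1.ProjSpace.toSpec n R)).app (dOp j) (tt j l), ?_⟩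
    have hsum : ∑ l, c l * tt j l = 0 := by
      change (eps n R).app (dOp j) m = 0 at hm
      rw [eps_app] at hm
      simp only [hc'] at hm
      rw [tt_sum_split] at hm
      exact (gen_ee (dOp (R := R) j)).smul_inj le_rfl
        (by rw [Groth.PicAux.res_self, zero_smul]; exact hm)
    change (iota n R).app (dOp j) _ = m
    rw [comp_mid_eq j _ m, comp_mid_eq j _ ((iota n R).app (dOp j) _)]
    refine Finset.sum_congr rfl fun i _ => ?_
    refine congrArg _ ((pi_iota_comb i j c).trans ?_)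
    rw [hsum, mul_zero, sub_zero]
    exact (hc' i).symm
  exact { exact := hex, mono_f := hmono, epi_g := hepi }

end Groth.PnEuler
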