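import Groth.Agent.PnEuler.Der
import Groth.Agent.RelTwist.Coord
import Groth.Agent.PnCoh.Cohomology

/-!
# The standard charts of projective space
-/

set_option autoImplicit false

universe u

open CategoryTheory AlgebraicGeometry Opposite TopologicalSpace MvPolynomial
open Groth.Ega2Proj HomogeneousLocalization

noncomputable section

namespace Groth.PnEuler

variable {n : ℕ} {R : Type u} [CommRing R]

local notation "X₀" => CohB1.ProjSpace n R
local notation "𝔓" => CohB1.polyGrading n R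
local notation "A₀" => MvPolynomial (Fin (n + 1)) R

/-- The standard open `D₊(X_j)`. -/
def dOp (j : Fin (n + 1)) : (CohB1.ProjSpace n R).Opens :=
  Proj.basicOpen (CohB1.polyGrading n R) (MvPolynomial.X j)

theorem X_notMem {j : Fin (n + 1)} {x : ProjectiveSpectrum 𝔓} (hx : x ∈ dOp (R := R) j) :
    (MvPolynomial.X j : A₀) ∉ x.asHomogeneousIdeal := hx

theorem one_notMem (x : ProjectiveSpectrum 𝔓) : (1 : A₀) ∉ x.asHomogeneousIdeal := fun h =>
  x.isPrime.ne_top ((Ideal.eq_top_iff_one _).mpr h)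

theorem iSup_dOp : ⨆ j, dOp (n := n) (R := R) j = ⊤ :=
  Proj.iSup_basicOpen_eq_top 𝔓 (fun k : Fin (n + 1) => (MvPolynomial.X k : A₀))
    Groth.Chow.ToPn.irrelevant_le_span_X

theorem isAffineOpen_dOp (j : Fin (n + 1)) : IsAffineOpen (dOp (n := n) (R := R) j) :=
  Proj.isAffineOpen_basicOpen 𝔓 _ (Groth.Chow.ToPn.X_mem j) one_pos

/-- The function `X_l / X_j` on `D₊(X_j)`. -/
def tt (j l : Fin (n + 1)) : Γ(X₀, dOp j) :=
  (Proj.awayToSection 𝔓 (MvPolynomial.X j)).hom (Away.mk 𝔓 (Groth.Chow.ToPn.X_mem j) 1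
    (MvPolynomial.X l) (by rw [one_smul]; exact Groth.Chow.ToPn.X_mem l))

theorem evalPt_awayToSection (j : Fin (n + 1)) (d : ℕ) {a : A₀} (ha : a ∈ 𝔓 (d • 1))
    (x : ProjectiveSpectrum 𝔓) (hx : x ∈ dOp j) :
    evalPt (dOp j) x hx ((Proj.awayToSection 𝔓 (MvPolynomial.X j)).hom
      (Away.mk 𝔓 (Groth.Chow.ToPn.X_mem j) d a ha)) =
      lfrac 𝔓 x a (fun h => hx (x.isPrime.mem_of_pow_mem d h) : (MvPolynomial.X j : A₀) ^ d ∉ _) :=
  Groth.RelTw.awayToSection_mk_val (𝒜 := 𝔓) (Groth.Chow.ToPn.X_mem j) d ha x hx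

theorem evalPt_tt (j l : Fin (n + 1)) (x : ProjectiveSpectrum 𝔓) (hx : x ∈ dOp j) :
    evalPt (dOp j) x hx (tt j l) = lfrac 𝔓 x (MvPolynomial.X l) (X_notMem hx) := by
  rw [tt, evalPt_awayToSection]
  simp [pow_one]

theorem tt_self (j : Fin (n + 1)) : tt (R := R) j j = 1 :=
  fun_ext fun x hx => by
    refine (evalPt_tt j j x hx).trans ?_
    rw [lfrac_self]
    exact (map_one (evalPt (dOp j) x hx)).symm

/-- The constants. -/
def scal (U : (X₀).Opens) : R →+* Γ(X₀, U) :=
  ((CohB1.ProjSpace.toSpec n R).appLE ⊤ U le_top).hom.comp (Scheme.ΓSpecIso (CommRingCat.of R)).inv.hom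

theorem evalPt_scal (U : (X₀).Opens) (r : R) (x : ProjectiveSpectrum 𝔓) (hx : x ∈ U) :
    evalPt U x hx (scal U r) = algebraMap A₀ (L x) (C r) :=
  evalPt_appLE_scalar U r x hx

/-- Every function on `D₊(X_j)` is a polynomial in the `X_l / X_j`. -/
theorem exists_eval₂_eq (j : Fin (n + 1)) (s : Γ(X₀, dOp j)) :
    ∃ p : A₀, MvPolynomial.eval₂ (scal (dOp j)) (tt j) p = s := by
  obtain ⟨w, rfl⟩ := (ConcreteCategory.bijective_of_isIso
    (Proj.basicOpenIsoAway 𝔓 (MvPolynomial.X j) (Groth.Chow.ToPn.X_mem j) one_pos).hom).2 s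
  obtain ⟨d, a, ha, rfl⟩ := Away.mk_surjective 𝔓 (Groth.Chow.ToPn.X_mem j) w
  refine ⟨a, fun_ext fun x hx => ?_⟩
  have had : a ∈ 𝔓 d := by rwa [smul_eq_mul, mul_one] at ha
  refine Eq.trans ?_ (evalPt_awayToSection j d ha x hx).symm
  change evalPt (dOp j) x hx _ = _
  let v : L x := lfrac 𝔓 x 1 (X_notMem hx)
  rw [MvPolynomial.eval₂_comp_left, show evalPt (dOp j) x hx ∘ tt j =
    fun l => v * algebraMap A₀ (L x) (MvPolynomial.X l) from funext fun l => by
      refine (evalPt_tt j l x hx).trans ?_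
      rw [← Localization.mk_one_eq_algebraMap]
      change _ = Localization.mk _ _ * _
      rw [Localization.mk_mul]
      exact congrArg₂ Localization.mk (one_mul _).symm (Subtype.ext (mul_one _).symm)]
  rw [Groth.Chow.ToPn.eval₂_scale _ _ v (d := d) had]
  have e1 : MvPolynomial.eval₂ ((evalPt (dOp j) x hx).comp (scal (dOp j)))
      (fun l => algebraMap A₀ (L x) (MvPolynomial.X l)) a = algebraMap A₀ (L x) a := by
    have h : algebraMap A₀ (L x) = MvPolynomial.eval₂Hom ((evalPt (dOp j) x hx).comp (scal (dOp j)))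
        (fun l => algebraMap A₀ (L x) (MvPolynomial.X l)) :=
      MvPolynomial.ringHom_ext (fun c => by
        rw [eval₂Hom_C, RingHom.comp_apply, evalPt_scal]) fun l => by rw [eval₂Hom_X']
    exact (RingHom.congr_fun h a).symm
  rw [e1, ← Localization.mk_one_eq_algebraMap]
  change Localization.mk _ _ ^ d * _ = _
  rw [Localization.mk_pow, Localization.mk_mul]
  exact congrArg₂ Localization.mk (by rw [one_pow, one_mul]) (Subtype.ext (by simp))

/-- The value of a section of a twisting sheaf. -/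
def val {d : ℤ} {U : (X₀).Opens} (s : Γ(Twist.twistProjSpace n R d, U)) (x : ProjectiveSpectrum 𝔓) (hx : x ∈ U) :
    L x := wval s x hx

theorem val_ext {d : ℤ} {U : (X₀).Opens} {s t : Γ(Twist.twistProjSpace n R d, U)}
    (h : ∀ x hx, val s x hx = val t x hx) : s = t := wval_ext h

theorem val_smul {d : ℤ} {U : (X₀).Opens} (r : Γ(X₀, U)) (s : Γ(Twist.twistProjSpace n R d, U))
    (x : ProjectiveSpectrum 𝔓) (hx : x ∈ U) : val (r • s) x hx = evalPt U x hx r * val s x hx :=
  wval_smul r s x hx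

theorem val_dFun (i : Fin (n + 1)) (U : (X₀).Opens) (r : Γ(X₀, U))
    (x : ProjectiveSpectrum 𝔓) (hx : x ∈ U) :
    val (dFun i U r) x hx = locDer i x (evalPt U x hx r) := rfl

/-- The generator `1 / X_j` of `O(-1)`. -/
def gg (j : Fin (n + 1)) : Γ(Twist.twistProjSpace n R (-1), dOp j) :=
  fracGen (SetLike.GradedOne.one_mem : (1 : A₀) ∈ 𝔓 0) (Groth.Chow.ToPn.X_mem j) (n := -1) (by omega)
    (dOp j) fun _ hx => hx

theorem val_gg (j : Fin (n + 1)) (x : ProjectiveSpectrum 𝔓) (hx : x ∈ dOp j) :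
    val (gg j) x hx = lfrac 𝔓 x 1 (X_notMem hx) := rfl

theorem gen_gg (j : Fin (n + 1)) :
    Groth.PicAux.Gen (Twist.twistProjSpace n R (-1)) (dOp j) (gg j) :=
  gen_fracGen _ _ _ _ _ fun x _ => one_notMem x

/-- The generator `1` of `O(0)`. -/
def ee (U : (X₀).Opens) : Γ(Twist.twistProjSpace n R 0, U) :=
  fracGen (SetLike.GradedOne.one_mem : (1 : A₀) ∈ 𝔓 0) (SetLike.GradedOne.one_mem : (1 : A₀) ∈ 𝔓 0)
    (n := 0) (by omega) U fun x _ => one_notMem x

theorem val_ee (U : (X₀).Opens) (x : ProjectiveSpectrum 𝔓) (hx : x ∈ U) : val (ee U) x hx = 1 :=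
  (wval_fracGen _ _ _ _ _ x hx).trans (lfrac_self _ x _)

theorem gen_ee (U : (X₀).Opens) : Groth.PicAux.Gen (Twist.twistProjSpace n R 0) U (ee U) :=
  gen_fracGen _ _ _ _ _ fun x _ => one_notMem x

/-- `∂_i (X_l / X_j) = δ_il / X_j - X_l δ_ij / X_j²`. -/
theorem dFun_tt (i j l : Fin (n + 1)) :
    dFun i (dOp j) (tt (R := R) j l) =
      ((if l = i then 1 else 0) - (if j = i then 1 else 0) * tt (R := R) j l) • gg (R := R) j := by
  refine val_ext fun x hx => ?_
  rw [val_dFun, val_smul, evalPt_tt, val_gg]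
  rw [locDer_lfrac i x _ _ (x.asHomogeneousIdeal.toIdeal.primeCompl.mul_mem (X_notMem hx) (X_notMem hx)),
    pderiv_X, pderiv_X, Pi.single_apply, Pi.single_apply, map_sub, map_mul, evalPt_tt]
  refine ((isUnit_algebraMap x (X_notMem hx)).mul (isUnit_algebraMap x (X_notMem hx))).mul_left_injective ?_
  beta_reduce
  have hg := lfrac_mul_algebraMap x 1 (X_notMem hx)
  have hl := lfrac_mul_algebraMap x (MvPolynomial.X l) (X_notMem hx)
  rw [← map_mul, lfrac_mul_algebraMap]
  rw [map_one] at hg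
  have hite : ∀ c : Prop, ∀ [Decidable c], algebraMap A₀ (L x) (if c then 1 else 0) =
      evalPt (dOp j) x hx (if c then 1 else 0) := fun c _ => by
    split_ifs <;> simp
  rw [map_sub, map_mul, map_mul, map_mul, hite, hite, ← hl]
  have hite' : ∀ c : Prop, ∀ [Decidable c], evalPt (dOp j) x hx (if c then 1 else 0) =
      if c then 1 else 0 := fun c _ => by split_ifs <;> simp
  rw [hite', hite']
  linear_combination -((if l = i then (1 : L x) else 0) * algebraMap A₀ (L x) (MvPolynomial.X j) -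
    (lfrac 𝔓 x (MvPolynomial.X l) (X_notMem hx) * algebraMap A₀ (L x) (MvPolynomial.X j)) *
      (if j = i then (1 : L x) else 0)) * hg

end Groth.PnEuler
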