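import Groth.Agent.PnEuler.EndOmega
import Groth.Agent.LocFree.ExtPow
import Groth.Agent.LocFree.ExtLift
import Groth.Agent.KTheory.LocFree
import Groth.Agent.OmegaSheaf.Pull

/-!
# The determinant of the sheaf of differentials of projective space is `O(-n-1)`
-/

set_option autoImplicit false

universe u

open CategoryTheory CategoryTheory.Limits AlgebraicGeometry Opposite TopologicalSpace MvPolynomial
open Groth.Ega2Proj Groth.PicAux

noncomputable section

attribute [local instance] HasFiniteBiproducts.of_hasFiniteProducts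

namespace Groth.PnEuler

variable {n : ℕ} {R : Type u} [CommRing R]

local notation "X₀" => CohB1.ProjSpace n R
local notation "𝔓" => CohB1.polyGrading n R
local notation "A₀" => MvPolynomial (Fin (n + 1)) R
local notation "Ω₀" => Omega.sheaf (CohB1.ProjSpace.toSpec n R)
local notation "O₋" => Twist.twistProjSpace n R (-((n : ℤ) + 1))

theorem pi_iota (l : Fin (n + 1)) : iota n R ≫ prj n R l = toTwist l :=
  biproduct.lift_π (f := fam n R) (fun k => toTwist (R := R) k) l

/-- The values of the components of a differential are killed by the Euler vector. -/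
theorem sum_X_val_toTwist (U : (X₀).Opens) (ω : Γ(Ω₀, U)) (x : ProjectiveSpectrum 𝔓) (hx : x ∈ U) :
    ∑ i, algebraMap A₀ (L x) (MvPolynomial.X i) * val ((toTwist i).app U ω) x hx = 0 := by
  have h : (eps n R).app U ((iota n R).app U ω) = 0 := by
    change (iota n R ≫ eps n R).app U ω = 0
    rw [iota_eps]
    rfl
  rw [eps_app] at h
  have h2 : ∀ i, (prj n R i).app U ((iota n R).app U ω) = (toTwist i).app U ω := fun i =>
    congr($(pi_iota (R := R) i).app U ω)
  simp only [h2] at h
  have h3 := congrArg (fun s => val s x hx) h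
  simp only [val_sum, val_zero, val_mulX] at h3
  exact h3

/-- A covector with value one on the Euler vector. -/
def lam (x : ProjectiveSpectrum 𝔓) (j : Fin (n + 1)) (hj : x ∈ dOp (R := R) j) : Fin (n + 1) → L x :=
  Pi.single j (lfrac 𝔓 x 1 (X_notMem hj))

theorem sum_X_lam (x : ProjectiveSpectrum 𝔓) (j : Fin (n + 1)) (hj : x ∈ dOp (R := R) j) :
    ∑ i, algebraMap A₀ (L x) (MvPolynomial.X i) * lam x j hj i = 1 := by
  classical
  simp only [lam, Pi.single_apply, mul_ite, mul_zero, Finset.sum_ite_eq', Finset.mem_univ, if_true]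
  rw [mul_comm, lfrac_mul_algebraMap, map_one]

/-- The matrix of the components, bordered by a covector. -/
def bord {A : Type*} (a : Fin (n + 1) → A) (v : Fin n → Fin (n + 1) → A) :
    Matrix (Fin (n + 1)) (Fin (n + 1)) A :=
  Matrix.of (Fin.cons a v)

theorem det_bord_eq {A : Type*} [CommRing A] (X : Fin (n + 1) → A) (j : Fin (n + 1)) (hX : IsUnit (X j))
    (v : Fin n → Fin (n + 1) → A) (hv : ∀ p, ∑ i, X i * v p i = 0)
    (a b : Fin (n + 1) → A) (ha : ∑ i, X i * a i = 1) (hb : ∑ i, X i * b i = 1) :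
    (bord a v).det = (bord b v).det := by
  have h0 : (bord (a - b) v).det = 0 := by
    have h1 : Matrix.mulVec (bord (a - b) v) X = 0 := by
      funext r
      change ∑ i, (Fin.cons (a - b) v : Fin (n + 1) → Fin (n + 1) → A) r i * X i = 0
      refine Fin.cases ?_ (fun p => ?_) r
      · simp only [Fin.cons_zero, Pi.sub_apply, sub_mul, Finset.sum_sub_distrib]
        simp only [mul_comm _ (X _), ha, hb, sub_self]
      · simp only [Fin.cons_succ, mul_comm _ (X _), hv]
    have h2 := congrArg (Matrix.mulVec (bord (a - b) v).adjugate) h1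
    rw [Matrix.mulVec_mulVec, Matrix.adjugate_mul, Matrix.smul_mulVec, Matrix.one_mulVec,
      Matrix.mulVec_zero] at h2
    have h3 := congrFun h2 j
    exact (hX.mul_left_eq_zero).1 h3
  have h4 : (bord a v).det = (bord (a - b) v).det + (bord b v).det := by
    have e : ∀ c : Fin (n + 1) → A, bord c v = (bord b v).updateRow 0 c := fun c => by
      ext r i
      refine Fin.cases ?_ (fun p => ?_) r
      · simp [bord]
      · rw [Matrix.updateRow_ne (Fin.succ_ne_zero p)]
        simp [bord]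
    rw [e a, e (a - b), ← add_zero ((bord b v).det)]
    conv_lhs => rw [← sub_add_cancel a b, Matrix.det_updateRow_add]
    rw [add_zero, ← e b]
  rw [h4, h0, zero_add]

/-- The components of a tuple of differentials at a point. -/
def comps (U : (X₀).Opens) (e : Fin n → Γ(Ω₀, U)) (x : ProjectiveSpectrum 𝔓) (hx : x ∈ U) :
    Fin n → Fin (n + 1) → L x :=
  fun p i => val ((toTwist i).app U (e p)) x hx

theorem exists_mem_dOp (x : ProjectiveSpectrum 𝔓) : ∃ j, x ∈ dOp (R := R) j :=
  Opens.mem_iSup.1 ((iSup_dOp (n := n) (R := R)).ge (Opens.mem_top (x : X₀)))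

/-- The value of the determinant. -/
def detVal (U : (X₀).Opens) (e : Fin n → Γ(Ω₀, U)) (x : ProjectiveSpectrum 𝔓) (hx : x ∈ U) : L x :=
  (bord (lam x (exists_mem_dOp x).choose (exists_mem_dOp x).choose_spec) (comps U e x hx)).det

theorem detVal_eq (U : (X₀).Opens) (e : Fin n → Γ(Ω₀, U)) (x : ProjectiveSpectrum 𝔓) (hx : x ∈ U)
    (j : Fin (n + 1)) (hj : x ∈ dOp (R := R) j) :
    detVal U e x hx = (bord (lam x j hj) (comps U e x hx)).det :=
  det_bord_eq (fun i => algebraMap A₀ (L x) (MvPolynomial.X i)) j (isUnit_algebraMap x (X_notMem hj)) _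
    (fun p => sum_X_val_toTwist U (e p) x hx) _ _ (sum_X_lam _ _ _) (sum_X_lam _ _ _)

/-- The generator `1 / X_j^{n+1}`. -/
def gN (j : Fin (n + 1)) : Γ(O₋, dOp j) :=
  fracGen (e := 0) (e' := n + 1) (SetLike.GradedOne.one_mem : (1 : A₀) ∈ 𝔓 0)
    (h := (MvPolynomial.X j : A₀) ^ (n + 1))
    (by simpa using SetLike.pow_mem_graded (n + 1) (Groth.Chow.ToPn.X_mem (R := R) j))
    (n := -((n : ℤ) + 1)) (by omega) (dOp j) fun x hx h => hx (x.isPrime.mem_of_pow_mem _ h)

theorem gen_gN (j : Fin (n + 1)) : Gen O₋ (dOp j) (gN (R := R) j) :=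
  gen_fracGen _ _ _ _ _ fun x _ => one_notMem x

theorem val_gN (j : Fin (n + 1)) (x : ProjectiveSpectrum 𝔓) (hx : x ∈ dOp (R := R) j) :
    val (gN (R := R) j) x hx = lfrac 𝔓 x 1 (X_notMem hx) ^ (n + 1) := by
  change Localization.mk _ _ = Localization.mk _ _ ^ (n + 1)
  rw [Localization.mk_pow]
  exact congrArg₂ Localization.mk (one_pow _).symm (Subtype.ext rfl)

theorem val_gN_res (j : Fin (n + 1)) {W : (X₀).Opens} (h : W ≤ dOp (R := R) j) (x : ProjectiveSpectrum 𝔓)
    (hx : x ∈ W) : val (res O₋ h (gN (R := R) j)) x hx = lfrac 𝔓 x 1 (X_notMem (h hx)) ^ (n + 1) :=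
  val_gN j x (h hx)

/-- The determinant is locally a section. -/
theorem exists_det_section (U : (X₀).Opens) (e : Fin n → Γ(Ω₀, U)) (j : Fin (n + 1)) :
    ∃ S : Γ(O₋, U ⊓ dOp (R := R) j), ∀ (x : ProjectiveSpectrum 𝔓) (hx : x ∈ U ⊓ dOp (R := R) j),
      val S x hx = detVal U e x hx.1 := by
  classical
  choose a ha using fun p i => (gen_gg (R := R) j).exists_coeff (inf_le_right : U ⊓ dOp (R := R) j ≤ _)
    (res _ (inf_le_left : U ⊓ dOp (R := R) j ≤ U) ((toTwist i).app U (e p)))
  refine ⟨(bord (Pi.single j 1) a).det • res O₋ inf_le_right (gN j), fun x hx => ?_⟩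
  rw [detVal_eq U e x hx.1 j hx.2, val_smul, val_gN_res, RingHom.map_det, mul_comm,
    ← show ∀ (M : Matrix (Fin (n + 1)) (Fin (n + 1)) (L x)) (c : L x), (c • M).det = c ^ (n + 1) * M.det from
      fun M c => by rw [Matrix.det_smul, Fintype.card_fin]]
  congr 1
  ext r i
  refine Fin.cases ?_ (fun p => ?_) r
  · change _ * evalPt _ x hx ((Pi.single j (1 : Γ(X₀, U ⊓ dOp (R := R) j)) : Fin (n + 1) → _) i) =
      (Pi.single j _ : Fin (n + 1) → L x) i
    rcases eq_or_ne i j with rfl | hij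
    · rw [Pi.single_eq_same, Pi.single_eq_same, map_one, mul_one]
    · rw [Pi.single_eq_of_ne hij, Pi.single_eq_of_ne hij, map_zero, mul_zero]
  · change _ * evalPt _ x hx (a p i) = val ((toTwist i).app U (e p)) x hx.1
    have h := congrArg (fun s => val s x hx) (ha p i)
    change val ((toTwist i).app U (e p)) x hx.1 = val _ x hx at h
    rw [h, val_smul]
    exact mul_comm _ _

theorem detVal_mem (U : (X₀).Opens) (e : Fin n → Γ(Ω₀, U)) (x : ProjectiveSpectrum 𝔓) (hx : x ∈ U) :
    detVal U e x hx ∈ Twist.twistAt 𝔓 (-((n : ℤ) + 1)) x := by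
  obtain ⟨j, hj⟩ := exists_mem_dOp x
  obtain ⟨S, hS⟩ := exists_det_section U e j
  rw [← hS x ⟨hx, hj⟩]
  exact (S.1 ⟨x, ⟨hx, hj⟩⟩).2

theorem exists_detSec (U : (X₀).Opens) (e : Fin n → Γ(Ω₀, U)) :
    ∃ s : Γ(O₋, U), ∀ (x : ProjectiveSpectrum 𝔓) (hx : x ∈ U), val s x hx = detVal U e x hx := by
  refine ⟨(⟨fun x => ⟨detVal U e x.1 x.2, detVal_mem U e x.1 x.2⟩, fun x => ?_⟩ :
    Twist.sectN (𝒜 := 𝔓) (-((n : ℤ) + 1)) (op U)), fun x hx => rfl⟩
  obtain ⟨j, hj⟩ := exists_mem_dOp x.1
  obtain ⟨S, hS⟩ := exists_det_section U e j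
  obtain ⟨V, hxV, ι, d, d', a, s, hnin, hdeg, hval⟩ := S.2 ⟨x.1, ⟨x.2, hj⟩⟩
  exact ⟨V, hxV, ι ≫ homOfLE inf_le_left, d, d', a, s, hnin, hdeg,
    fun y => (hS y.1 (ι.le y.2)).symm.trans (hval y)⟩

theorem comps_update (U : (X₀).Opens) (e : Fin n → Γ(Ω₀, U)) (p : Fin n) (z : Γ(Ω₀, U))
    (x : ProjectiveSpectrum 𝔓) (hx : x ∈ U) (a : Fin (n + 1) → L x) [DecidableEq (Fin n)] :
    bord a (comps U (Function.update e p z) x hx) =
      (bord a (comps U e x hx)).updateRow p.succ (fun i => val ((toTwist i).app U z) x hx) := by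
  ext r i
  refine Fin.cases ?_ (fun q => ?_) r
  · rw [Matrix.updateRow_ne (Fin.succ_ne_zero p).symm]
    simp [bord]
  · rcases eq_or_ne q p with rfl | hq
    · rw [Matrix.updateRow_self]
      simp [bord, comps]
    · rw [Matrix.updateRow_ne (fun h => hq (Fin.succ_injective _ h))]
      simp [bord, comps, hq]

/-- The determinant, an alternating map. -/
def detAlt (U : (X₀).Opens) : Γ(Ω₀, U) [⋀^Fin n]→ₗ[Γ(X₀, U)] Γ(O₋, U) where
  toFun e := (exists_detSec U e).choose
  map_update_add' := fun e p z z' => by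
    refine val_ext fun x hx => ?_
    rw [val_add, (exists_detSec U _).choose_spec, (exists_detSec U _).choose_spec,
      (exists_detSec U _).choose_spec, detVal, detVal, detVal, comps_update, comps_update, comps_update,
      ← Matrix.det_updateRow_add]
    congr 2
    funext i
    rw [map_add]
    exact val_add _ _ x hx
  map_update_smul' := fun e p r z => by
    refine val_ext fun x hx => ?_
    rw [val_smul, (exists_detSec U _).choose_spec, (exists_detSec U _).choose_spec, detVal, detVal,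
      comps_update, comps_update, ← Matrix.det_updateRow_smul]
    congr 2
    funext i
    rw [Scheme.Modules.Hom.app_smul]
    exact val_smul _ _ x hx
  map_eq_zero_of_eq' := fun e p q h hne => by
    refine val_ext fun x hx => ?_
    rw [(exists_detSec U _).choose_spec, val_zero, detVal]
    refine Matrix.det_zero_of_row_eq (i := p.succ) (j := q.succ) (fun hh => hne (Fin.succ_injective _ hh)) ?_
    funext i
    simp only [bord, Matrix.of_apply, Fin.cons_succ, comps, h]

theorem val_detAlt (U : (X₀).Opens) (e : Fin n → Γ(Ω₀, U)) (x : ProjectiveSpectrum 𝔓) (hx : x ∈ U) :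
    val (detAlt U e) x hx = detVal U e x hx :=
  (exists_detSec U e).choose_spec x hx

theorem res_detAlt (U V : (X₀).Opens) (h : V ≤ U) (e : Fin n → Γ(Ω₀, U)) :
    res O₋ h (detAlt U e) = detAlt V fun p => res Ω₀ h (e p) := by
  refine val_ext fun x hx => ?_
  change val (detAlt U e) x (h hx) = _
  rw [val_detAlt, val_detAlt, detVal, detVal]
  congr 2
  funext p i
  exact congrArg (fun s => val s x hx) (app_res (toTwist i) h (e p)).symm

variable (n R) in
/-- `det Ω → O(-n-1)`. -/
def detHom : Groth.LocFree.extPow n (Omega.sheaf (CohB1.ProjSpace.toSpec n R)) ⟶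
    Twist.twistProjSpace n R (-((n : ℤ) + 1)) :=
  Groth.LocFree.extLift n _ detAlt res_detAlt

/-- The frame `d (X_l / X_j)`, `l ≠ j`. -/
def frame (j : Fin (n + 1)) (p : Fin n) : Γ(Ω₀, dOp (R := R) j) :=
  (OmegaSh.dOmega (CohB1.ProjSpace.toSpec n R)).app (dOp j) (tt j (j.succAbove p))

instance isQCoh_omega : (Omega.sheaf (CohB1.ProjSpace.toSpec n R)).IsQuasicoherent :=
  Groth.OmegaSheaf.isQCoh_of_isUniversal (Groth.OmegaSheaf.isUniversal_dOmega _)

theorem dOmega_tt_self (j : Fin (n + 1)) :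
    (OmegaSh.dOmega (CohB1.ProjSpace.toSpec n R)).app (dOp j) (tt j j) = 0 := by
  rw [tt_self]
  exact (OmegaSh.dOmega (CohB1.ProjSpace.toSpec n R)).d_one (op (dOp j))

theorem bijective_frame (j : Fin (n + 1)) :
    Function.Bijective fun c : Fin n → Γ(X₀, dOp (R := R) j) => ∑ p, c p • frame (R := R) j p := by
  have hsplit : ∀ c : Fin (n + 1) → Γ(X₀, dOp (R := R) j),
      ∑ l, c l • (OmegaSh.dOmega (CohB1.ProjSpace.toSpec n R)).app (dOp j) (tt j l) =
        ∑ p, c (j.succAbove p) • frame j p := fun c => by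
    rw [Fin.sum_univ_succAbove _ j, dOmega_tt_self, smul_zero, zero_add]
    rfl
  refine ⟨fun c c' h => funext fun p => ?_, fun ω => ?_⟩
  · let ext₀ : (Fin n → Γ(X₀, dOp (R := R) j)) → Fin (n + 1) → Γ(X₀, dOp (R := R) j) :=
      fun c => Fin.insertNth j 0 c
    have h1 : ∀ d, ∑ p, d p • frame j p =
        ∑ l, ext₀ d l • (OmegaSh.dOmega (CohB1.ProjSpace.toSpec n R)).app (dOp j) (tt j l) := fun d => by
      rw [hsplit]
      simp [ext₀]
    have h2 := congrArg (fun w => (prj n R (j.succAbove p)).app (dOp j) ((iota n R).app (dOp j) w))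
      ((h1 c).symm.trans (h.trans (h1 c')))
    simp only [pi_iota_comb, if_neg (Fin.succAbove_ne j p).symm, zero_mul, sub_zero] at h2
    have h3 := gg_inj j h2
    simpa [ext₀] using h3
  · obtain ⟨c, rfl⟩ := exists_comb j ω
    exact ⟨fun p => c (j.succAbove p), (hsplit c).symm⟩

theorem isFinLocFreeOfRank_omega : FlatMod.IsFinLocFreeOfRank n Ω₀ := fun x => by
  obtain ⟨j, hj⟩ := exists_mem_dOp (x : ProjectiveSpectrum 𝔓)
  obtain ⟨e⟩ := Groth.LocFree.nonempty_iso_of_basis
    (Groth.KTheory.LocFree.basis'_of_affine (isAffineOpen_dOp (R := R) j) (frame j) (bijective_frame j))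
  exact ⟨dOp j, hj, ⟨e⟩⟩

theorem detHom_frame (j : Fin (n + 1)) :
    ∃ σ : Equiv.Perm (Fin (n + 1)), (detHom n R).app (dOp j) (Groth.LocFree.wedge n Ω₀ (frame j)) =
      ((Equiv.Perm.sign σ : ℤ) : Γ(X₀, dOp (R := R) j)) • gN j := by
  classical
  have hbij : Function.Bijective (Fin.cons j (j.succAbove) : Fin (n + 1) → Fin (n + 1)) := by
    refine (Fintype.bijective_iff_injective_and_card _).2 ⟨?_, rfl⟩
    exact Fin.cons_injective_iff.2 ⟨fun ⟨p, hp⟩ => Fin.succAbove_ne j p hp, Fin.succAbove_right_injective⟩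
  refine ⟨Equiv.ofBijective _ hbij, ?_⟩
  refine (congrArg _ rfl).trans ((Groth.LocFree.extLift_wedge n _ detAlt res_detAlt _ _).trans ?_)
  refine val_ext fun x hx => ?_
  rw [val_detAlt, detVal_eq _ _ x hx j hx, val_smul, val_gN, map_intCast, mul_comm]
  let N : Matrix (Fin (n + 1)) (Fin (n + 1)) (L x) :=
    bord (Pi.single j 1) fun p i => (if j.succAbove p = i then 1 else 0) -
      (if j = i then 1 else 0) * evalPt (dOp j) x hx (tt (R := R) j (j.succAbove p))
  have hN : bord (lam x j hx) (comps (dOp j) (frame j) x hx) = lfrac 𝔓 x 1 (X_notMem hx) • N := by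
    ext r i
    refine Fin.cases ?_ (fun p => ?_) r
    · change lam x j hx i = lfrac 𝔓 x 1 (X_notMem hx) * (Pi.single j 1 : Fin (n + 1) → L x) i
      rcases eq_or_ne i j with rfl | hij
      · rw [lam, Pi.single_eq_same, Pi.single_eq_same, mul_one]
      · rw [lam, Pi.single_eq_of_ne hij, Pi.single_eq_of_ne hij, mul_zero]
    · change val ((toTwist i).app (dOp j) (frame j p)) x hx = lfrac 𝔓 x 1 (X_notMem hx) * _
      rw [frame, toTwist_d, dFun_tt, val_smul, val_gg, mul_comm]
      congr 1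
      rw [map_sub, map_mul]
      change _ = (if j.succAbove p = i then (1 : L x) else 0) -
        (if j = i then (1 : L x) else 0) * evalPt (dOp j) x hx (tt (R := R) j (j.succAbove p))
      congr 1
      · split_ifs <;> simp
      · congr 1
        split_ifs <;> simp
  rw [hN, Matrix.det_smul, Fintype.card_fin]
  congr 1
  let t : Fin (n + 1) → L x := Fin.cons 0 fun p => evalPt (dOp j) x hx (tt (R := R) j (j.succAbove p))
  let P : Matrix (Fin (n + 1)) (Fin (n + 1)) (L x) :=
    (1 : Matrix (Fin (n + 1)) (Fin (n + 1)) (L x)).submatrix (Equiv.ofBijective _ hbij) id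
  have hP : N.det = P.det := by
    refine Matrix.det_eq_of_forall_row_eq_smul_add_const (fun r => -t r) 0 (by simp [t]) fun r i => ?_
    refine Fin.cases ?_ (fun p => ?_) r
    · simp [N, P, bord, t, Matrix.one_apply, Pi.single_apply, eq_comm]
    · simp [N, P, bord, t, Matrix.one_apply, Pi.single_apply, eq_comm, sub_eq_add_neg, mul_comm]
  rw [hP, Matrix.det_permute, Matrix.det_one, mul_one]

/-- `det Ω ≅ O(-n-1)`. -/
theorem isIso_detHom : IsIso (detHom n R) := by
  haveI := isQCoh_omega (n := n) (R := R)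
  have hinv : PicF.IsInvertible (Groth.LocFree.extPow n Ω₀) :=
    Groth.LocFree.isInvertible_det isFinLocFreeOfRank_omega (Groth.LocFree.isExtPow_extPow n _)
  choose U g hxU hg using fun x : X₀ => (isInvertible_iff_exists_gen _).1 hinv x
  choose jj hjj using fun x : X₀ => exists_mem_dOp (n := n) (R := R) (x : ProjectiveSpectrum 𝔓)
  refine Groth.PicAux.isIso_of_cover (U := fun x : X₀ => U x ⊓ dOp (R := R) (jj x))
    (eq_top_iff.2 fun x _ => Opens.mem_iSup.2 ⟨x, hxU x, hjj x⟩) _ fun x V hV => ?_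
  have hV1 : V ≤ U x := hV.trans inf_le_left
  have hV2 : V ≤ dOp (R := R) (jj x) := hV.trans inf_le_right
  obtain ⟨σ, hσ⟩ := detHom_frame (R := R) (jj x)
  obtain ⟨c, hc⟩ := (hg x).exists_coeff hV1
    (res _ hV2 (Groth.LocFree.wedge n Ω₀ (frame (R := R) (jj x))))
  obtain ⟨r, hr⟩ := (gen_gN (R := R) (jj x)).exists_coeff hV2 ((detHom n R).app V (res _ hV1 (g x)))
  have hu : IsUnit r := by
    have h1 := congrArg ((detHom n R).app V) hc
    rw [app_res, hσ, res_smul, Scheme.Modules.Hom.app_smul, hr, smul_smul] at h1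
    have h2 := (gen_gN (R := R) (jj x)).smul_inj hV2 h1
    rw [map_intCast] at h2
    have h3 : IsUnit (c * r) := h2 ▸
      ((Equiv.Perm.sign σ).isUnit.map (Int.castRingHom Γ(X₀, V)) : IsUnit _)
    exact (IsUnit.mul_iff.1 h3).2
  constructor
  · intro a b hab
    obtain ⟨a', rfl⟩ := (hg x).exists_coeff hV1 a
    obtain ⟨b', rfl⟩ := (hg x).exists_coeff hV1 b
    rw [Scheme.Modules.Hom.app_smul, Scheme.Modules.Hom.app_smul, hr, smul_smul, smul_smul] at hab
    rw [hu.mul_left_injective ((gen_gN (R := R) (jj x)).smul_inj hV2 hab)]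
  · intro y
    obtain ⟨y', rfl⟩ := (gen_gN (R := R) (jj x)).exists_coeff hV2 y
    refine ⟨(y' * ↑hu.unit⁻¹) • res _ hV1 (g x), ?_⟩
    rw [Scheme.Modules.Hom.app_smul, hr, smul_smul, mul_assoc, IsUnit.val_inv_mul, mul_one]

end Groth.PnEuler
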