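import Groth.Agent.CohFin.Linear
import Groth.Agent.PicAux.Sections
import Mathlib.CategoryTheory.Abelian.Basic

/-!
# Extending morphisms along an extension of the structure sheaf
-/

set_option autoImplicit false

universe u

open CategoryTheory CategoryTheory.Limits AlgebraicGeometry Opposite TopologicalSpace
open Groth.PicAux

noncomputable section

namespace Groth.PnEuler

variable {A : Type u} [CommRing A] {X : Scheme.{u}} (f : X ⟶ Spec (CommRingCat.of A))

include f in
/-- If `0 → X₁ → X₂ → O → 0` is exact and `H¹(M) = 0`, morphisms `X₁ → M` extend to `X₂`. -/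
theorem exists_extend {S : ShortComplex X.Modules} (hS : S.ShortExact)
    (e : S.X₃ ≅ Coh.structureModule X) {M : X.Modules} (hM : Subsingleton (Coh.HH X M 1))
    (φ : S.X₁ ⟶ M) : ∃ χ : S.X₂ ⟶ M, S.f ≫ χ = φ := by
  haveI := hS.mono_f
  haveI := hS.epi_g
  let P := pushout S.f φ
  let q : P ⟶ S.X₃ := pushout.desc S.g 0 (by rw [S.zero, comp_zero])
  have hq0 : pushout.inr S.f φ ≫ q = 0 := pushout.inr_desc _ _ _
  have hq : IsColimit (CokernelCofork.ofπ q hq0) :=
    CokernelCofork.IsColimit.ofπ _ _
      (fun k hk => hS.gIsCokernel.desc (CokernelCofork.ofπ (pushout.inl S.f φ ≫ k)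
        (by rw [← Category.assoc, pushout.condition, Category.assoc, hk, comp_zero])))
      (fun k hk => by
        apply pushout.hom_ext
        · rw [← Category.assoc, pushout.inl_desc]
          exact hS.gIsCokernel.fac (CokernelCofork.ofπ _ _) WalkingParallelPair.one
        · rw [← Category.assoc, hq0, zero_comp, hk])
      (fun k hk m hm => by
        have : Epi S.g := hS.epi_g
        rw [← cancel_epi S.g]
        refine Eq.trans ?_ (hS.gIsCokernel.fac (CokernelCofork.ofπ _ _) WalkingParallelPair.one).symm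
        change _ = pushout.inl S.f φ ≫ k
        rw [← hm, ← Category.assoc, pushout.inl_desc])
  haveI : Mono (pushout.inr S.f φ) := inferInstance
  let T : ShortComplex X.Modules := ShortComplex.mk (pushout.inr S.f φ) q hq0
  haveI : Epi q := epi_of_isColimit_cofork hq
  have hT : T.ShortExact :=
    { exact := ShortComplex.exact_of_g_is_cokernel T hq
      mono_f := by dsimp [T]; infer_instance
      epi_g := by dsimp [T]; infer_instance }
  let z : Γ(S.X₃, ⊤) := e.inv.app ⊤ (oneSec X ⊤)
  obtain ⟨y, hy⟩ := (CohFin.exact_mapL_delta (f := f) hT 0 ((CohFin.equivSections f T.X₃).symm z)).1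
    ((show Subsingleton (CohFin.HA f T.X₁ 1) from hM).elim _ _)
  have hy' : q.app ⊤ (CohFin.equivSections f P y) = z := by
    refine (CohFin.equivSections_mapL f T.g y).symm.trans ?_
    rw [hy, AddEquiv.apply_symm_apply]
  let s : Coh.structureModule X ⟶ P := homOfSection (CohFin.equivSections f P y)
  have hs : s ≫ q = e.inv := hom_structure_ext (by
    change q.app ⊤ (s.app ⊤ (oneSec X ⊤)) = _
    rw [show s.app ⊤ (oneSec X ⊤) = _ from homOfSection_one _, hy'])
  have hr : (𝟙 P - q ≫ e.hom ≫ s) ≫ q = 0 := by
    rw [Preadditive.sub_comp, Category.id_comp, Category.assoc, Category.assoc, hs, e.hom_inv_id,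
      Category.comp_id, sub_self]
  let r : P ⟶ M := hT.fIsKernel.lift (KernelFork.ofι (𝟙 P - q ≫ e.hom ≫ s) hr)
  have hr' : r ≫ pushout.inr S.f φ = 𝟙 P - q ≫ e.hom ≫ s :=
    hT.fIsKernel.fac (KernelFork.ofι _ hr) WalkingParallelPair.zero
  refine ⟨pushout.inl S.f φ ≫ r, (cancel_mono (pushout.inr S.f φ)).1 ?_⟩
  rw [Category.assoc, Category.assoc, hr', Preadditive.comp_sub, Category.comp_id,
    Preadditive.comp_sub, ← Category.assoc (pushout.inl S.f φ), pushout.inl_desc,
    ← Category.assoc S.f S.g, S.zero, zero_comp, sub_zero, pushout.condition]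

end Groth.PnEuler
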