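import Groth.Agent.PnEuler.Seq
import Groth.Agent.PnEuler.Extend
import Groth.Agent.Duality.PnMulPoly
import Groth.Agent.HilbStab.Scalar
import Groth.Agent.PnCoh.GlobalFun

/-!
# The sheaf of differentials of projective space is simple
-/

set_option autoImplicit false

universe u

open CategoryTheory CategoryTheory.Limits AlgebraicGeometry Opposite TopologicalSpace MvPolynomial
open Groth.Ega2Proj

noncomputable section

attribute [local instance] HasFiniteBiproducts.of_hasFiniteProducts

namespace Groth.PnEuler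

variable {n : ℕ} {R : Type u} [CommRing R]

local notation "X₀" => CohB1.ProjSpace n R
local notation "𝔓" => CohB1.polyGrading n R
local notation "A₀" => MvPolynomial (Fin (n + 1)) R

theorem res_scal {U V : (X₀).Opens} (h : V ≤ U) (r : R) :
    (X₀).presheaf.map (homOfLE h).op (scal U r) = scal V r :=
  congr($((CohB1.ProjSpace.toSpec n R).appLE_map (U := ⊤) (V := U) le_top (homOfLE h).op)
    ((Scheme.ΓSpecIso (CommRingCat.of R)).inv r))

/-- An endomorphism of a twisting sheaf is a constant. -/
theorem exists_hom_twist_eq_scal (d : ℤ) (φ : Twist.twistProjSpace n R d ⟶ Twist.twistProjSpace n R d) :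
    ∃ r : R, ∀ (U : (X₀).Opens) (s : Γ(Twist.twistProjSpace n R d, U)), φ.app U s = scal U r • s := by
  obtain ⟨f, hf, hφ⟩ := Groth.Duality.Pn.exists_eq_mulEl (n := n) (R := R) (a := d) (b := d) 0 (by simp) φ
  have hfC : f = C (f.coeff 0) := (totalDegree_eq_zero_iff_eq_C (p := f)).1
    (Nat.le_zero.1 ((mem_homogeneousSubmodule _ _).1 hf).totalDegree_le)
  refine ⟨f.coeff 0, fun U s => val_ext fun x hx => ?_⟩
  rw [val_smul, evalPt_scal, ← hfC, ← Localization.mk_one_eq_algebraMap, hφ]
  exact Groth.Duality.Pn.wval_mulEl 𝔓 hf _ U s x hx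

/-- Linear relations between the coordinates `X_l / X_j` with constant coefficients. -/
theorem const_relation (j m : Fin (n + 1)) (a : Fin (n + 1) → R) (c : R) (i : Fin (n + 1))
    (h : ∑ l, scal (dOp j) (a l) * tt (R := R) j l = scal (dOp j) c * tt (R := R) j i) :
    scal (dOp (R := R) j) (a m) = if i = m then scal (dOp (R := R) j) c else 0 := by
  have hd : ∀ (r : R) (p : Fin (n + 1)), dFun m (dOp j) (scal (dOp j) r * tt (R := R) j p) =
      (scal (dOp j) r * ((if p = m then 1 else 0) - (if j = m then 1 else 0) * tt (R := R) j p)) • gg (R := R) j := by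
    intro r p
    rw [dFun_mul, dFun_tt, smul_smul, show dFun m (dOp j) (scal (dOp (R := R) j) r) = 0 from ?_, smul_zero, add_zero]
    refine val_ext fun x hx => ?_
    rw [val_dFun, evalPt_scal, locDer_algebraMap, pderiv_C, map_zero]
    rfl
  have h1 : ∑ l, dFun m (dOp j) (scal (dOp j) (a l) * tt (R := R) j l) =
      dFun m (dOp j) (scal (dOp j) c * tt (R := R) j i) :=
    (map_sum (AddMonoidHom.mk' (dFun m (dOp (R := R) j)) (dFun_add m _)) _ _).symm.trans
      (congrArg (dFun m (dOp (R := R) j)) h)
  simp only [hd, ← Finset.sum_smul] at h1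
  have h2 := gg_inj j h1
  simp only [mul_sub, Finset.sum_sub_distrib, mul_ite, mul_one, mul_zero, Finset.sum_ite_eq',
    Finset.mem_univ, if_true] at h2
  rcases eq_or_ne j m with rfl | hjm
  · simp only [if_true, one_mul] at h2
    rw [h] at h2
    exact sub_left_inj.1 h2
  · simp only [if_neg hjm, zero_mul, mul_zero, Finset.sum_const_zero, sub_zero] at h2
    exact h2

theorem scalar_comp {X : Scheme.{u}} {M N : X.Modules} (g : Γ(X, ⊤)) (φ : M ⟶ N) :
    Groth.HilbStab.scalar g M ≫ φ = φ ≫ Groth.HilbStab.scalar g N :=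
  Groth.CohTwo.hom_ext_app fun U m => by
    change φ.app U ((Groth.HilbStab.scalar g M).app U m) = (Groth.HilbStab.scalar g N).app U (φ.app U m)
    rw [Groth.HilbStab.scalar_app, Groth.HilbStab.scalar_app, Scheme.Modules.Hom.app_smul]

theorem scalar_scal_app (r : R) (M : (X₀).Modules) (U : (X₀).Opens) (m : Γ(M, U)) :
    (Groth.HilbStab.scalar (scal ⊤ r) M).app U m = scal U r • m := by
  rw [Groth.HilbStab.scalar_app]
  exact congrArg (· • m) (res_scal le_top r)

/-- Every endomorphism of the sheaf of differentials of projective space is a constant. -/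
theorem exists_eq_scalar_omega
    (φ : Omega.sheaf (CohB1.ProjSpace.toSpec n R) ⟶ Omega.sheaf (CohB1.ProjSpace.toSpec n R)) :
    ∃ r : R, φ = Groth.HilbStab.scalar (scal ⊤ r) _ := by
  have hS := shortExact_eulerSeq (n := n) (R := R)
  obtain ⟨e⟩ := Groth.PnCoh.nonempty_twist_zero_iso 𝔓
  have hH := Groth.PnCoh.subsingleton_HH_twist (n := n) (R := R) (-1) 1 (by omega) (by omega)
  have hext : ∀ i : Fin (n + 1), ∃ χ : mid n R ⟶ Twist.twistProjSpace n R (-1),
      iota n R ≫ χ = φ ≫ toTwist i :=
    fun i => exists_extend (CohB1.ProjSpace.toSpec n R) hS e hH (φ ≫ toTwist i)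
  choose χ hχ using hext
  choose a ha using fun l i : Fin (n + 1) => exists_hom_twist_eq_scal (-1) (inj n R i ≫ χ l)
  have hpi : ∀ l, iota n R ≫ prj n R l = toTwist l := fun l =>
    biproduct.lift_π (f := fam n R) (fun k => toTwist (R := R) k) l
  let X' : mid n R ⟶ mid n R := biproduct.lift χ
  have hX' : iota n R ≫ X' = φ ≫ iota n R := biproduct.hom_ext (f := fam n R) _ _ fun l => by
    rw [Category.assoc, Category.assoc, hpi]
    exact (congrArg (iota n R ≫ ·) (biproduct.lift_π (f := fam n R) χ l)).trans (hχ l)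
  haveI : Mono (iota n R) := hS.mono_f
  have hκ : iota n R ≫ (X' ≫ eps n R) = 0 := by
    rw [← Category.assoc, hX', Category.assoc, iota_eps, comp_zero]
  let δ : Twist.twistProjSpace n R 0 ⟶ Twist.twistProjSpace n R 0 :=
    hS.gIsCokernel.desc (CokernelCofork.ofπ (X' ≫ eps n R) hκ)
  have hδ : eps n R ≫ δ = X' ≫ eps n R :=
    hS.gIsCokernel.fac (CokernelCofork.ofπ _ hκ) WalkingParallelPair.one
  obtain ⟨c, hc⟩ := exists_hom_twist_eq_scal 0 δ
  have hrel : ∀ j i : Fin (n + 1),
      ∑ l, scal (dOp j) (a l i) * tt (R := R) j l = scal (dOp j) c * tt (R := R) j i := fun j i => by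
    have h := congr($(hδ.symm).app (dOp j) ((inj n R i).app (dOp j) (gg (R := R) j)))
    have h1 : (eps n R).app (dOp j) ((inj n R i).app (dOp j) (gg (R := R) j)) =
        tt (R := R) j i • ee (dOp (R := R) j) :=
      (congr($(biproduct.ι_desc (f := fam n R) (fun k => mulX (R := R) k) i).app (dOp j) (gg (R := R) j))).trans
        (mulX_gg i j)
    change (eps n R).app (dOp j) (X'.app (dOp j) ((inj n R i).app (dOp j) (gg (R := R) j))) =
      δ.app (dOp j) ((eps n R).app (dOp j) ((inj n R i).app (dOp j) (gg (R := R) j))) at h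
    have h2 : ∀ l, (prj n R l).app (dOp j) (X'.app (dOp j) ((inj n R i).app (dOp j) (gg (R := R) j))) =
        scal (dOp j) (a l i) • gg (R := R) j := fun l =>
      (congr($(biproduct.lift_π (f := fam n R) χ l).app (dOp j) ((inj n R i).app (dOp j) (gg (R := R) j)))).trans
        (ha l i _ _)
    rw [eps_app, h1, hc, smul_smul] at h
    simp only [h2] at h
    rw [tt_sum_split] at h
    exact (gen_ee (dOp (R := R) j)).smul_inj le_rfl (by rw [Groth.PicAux.res_self]; exact h)
  refine ⟨c, (cancel_mono (iota n R)).1 (biproduct.hom_ext (f := fam n R) _ _ fun l => ?_)⟩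
  rw [Category.assoc, Category.assoc, hpi, scalar_comp, ← hχ l, ← hpi, Category.assoc]
  congr 1
  refine biproduct.hom_ext' (f := fam n R) _ _ fun i => ?_
  refine Groth.PicAux.hom_ext_cover (iSup_dOp (n := n) (R := R)) fun j V hV s => ?_
  have hcon := congrArg ((X₀).presheaf.map (homOfLE hV).op) (const_relation j l (fun l => a l i) c i (hrel j i))
  rw [res_scal] at hcon
  refine (ha l i V s).trans ?_
  change _ = (Groth.HilbStab.scalar (scal ⊤ c) _).app V ((inj n R i ≫ prj n R l).app V s)
  rw [scalar_scal_app, hcon]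
  rcases eq_or_ne i l with rfl | hil
  · have h1 : inj n R i ≫ prj n R i = 𝟙 _ := biproduct.ι_π_self (fam n R) i
    rw [if_pos rfl, res_scal, h1]
    rfl
  · have h1 : inj n R i ≫ prj n R l = 0 := biproduct.ι_π_ne (fam n R) hil
    rw [if_neg hil, map_zero, zero_smul, h1]
    exact (smul_zero _).symm

end Groth.PnEuler
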