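import Groth.Agent.PnEuler.LocDer
import Groth.Agent.OmegaSheaf.Universal
import Groth.Agent.Chow.ToPn
import Mathlib.AlgebraicGeometry.ProjectiveSpectrum.Proper

/-!
# The derivations `O → O(-1)` given by partial derivatives
-/

set_option autoImplicit false

universe u

open CategoryTheory AlgebraicGeometry Opposite TopologicalSpace MvPolynomial
open Groth.Ega2Proj

noncomputable section

namespace Groth.PnEuler

variable (n : ℕ) (R : Type u) [CommRing R]

local notation "X₀" => CohB1.ProjSpace n R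
local notation "𝔓" => CohB1.polyGrading n R

instance quasiSeparated_toSpec : QuasiSeparated (CohB1.ProjSpace.toSpec n R) := by
  unfold CohB1.ProjSpace.toSpec
  haveI h1 : IsSeparated (Proj.toSpecZero (CohB1.polyGrading n R)) := Proj.isSeparated _
  have h2 : QuasiSeparated (Proj.toSpecZero (CohB1.polyGrading n R)) :=
    ⟨by haveI := h1.isClosedImmersion_diagonal; infer_instance⟩
  exact @AlgebraicGeometry.quasiSeparated_comp _ _ _ _ _ h2 inferInstance

variable {n R}

/-- `∂_i` on sections over `U`. -/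
def dFun (i : Fin (n + 1)) (U : (X₀).Opens) (r : Γ(X₀, U)) : Γ(Twist.twistProjSpace n R (-1), U) :=
  (⟨fun x => ⟨locDer i x.1 (evalPt U x.1 x.2 r), locDer_mem i x.1 (evalPt_mem U x.1 x.2 r)⟩,
    fun x => by
      obtain ⟨V, hxV, ι, d, ⟨a, ha⟩, ⟨s, hs⟩, hnin, hval⟩ := r.2 x
      have hev : ∀ y : V, evalPt U y.1 (ι y).2 r = lfrac 𝔓 y.1 a (hnin y) := fun y =>
        (congrArg HomogeneousLocalization.val (hval y)).trans (HomogeneousLocalization.val_mk _)
      have hnin2 : ∀ y : V, s * s ∉ y.1.asHomogeneousIdeal := fun y =>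
        y.1.asHomogeneousIdeal.toIdeal.primeCompl.mul_mem (hnin y) (hnin y)
      have hmem : pderiv i a * s - a * pderiv i s ∈ 𝔓 (d + d - 1) ∧
          (d = 0 → pderiv i a * s - a * pderiv i s = 0) := by
        rcases Nat.eq_zero_or_pos d with rfl | hd0
        · have h0 : ∀ b ∈ 𝔓 0, pderiv i b = 0 := fun b hb => by
            rw [(totalDegree_eq_zero_iff_eq_C (p := b)).1
              (Nat.le_zero.1 ((mem_homogeneousSubmodule _ _).1 hb).totalDegree_le), pderiv_C]
          rw [h0 a ha, h0 s hs, zero_mul, mul_zero, sub_zero]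
          exact ⟨zero_mem _, fun _ => rfl⟩
        · have ha' : pderiv i a ∈ 𝔓 (d - 1) := ((mem_homogeneousSubmodule _ _).1 ha).pderiv
          have hs' : pderiv i s ∈ 𝔓 (d - 1) := ((mem_homogeneousSubmodule _ _).1 hs).pderiv
          refine ⟨sub_mem ?_ ?_, fun h => absurd h (by omega)⟩
          · have := SetLike.mul_mem_graded ha' hs
            rwa [show d - 1 + d = d + d - 1 by omega] at this
          · have := SetLike.mul_mem_graded ha hs'
            rwa [show d + (d - 1) = d + d - 1 by omega] at this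
      refine ⟨V, hxV, ι, d + d - 1, d + d, ⟨_, hmem.1⟩, ⟨s * s, SetLike.mul_mem_graded hs hs⟩, hnin2, ?_,
        fun y => ?_⟩
      · by_cases hd : d = 0
        · exact Or.inr (hmem.2 hd)
        · exact Or.inl (by omega)
      · change locDer i y.1 (evalPt U y.1 (ι y).2 r) = _
        rw [hev y, locDer_lfrac i y.1 a (hnin y) (hnin2 y)]⟩ :
    Twist.sectN (𝒜 := 𝔓) (-1) (op U))

theorem wval_dFun (i : Fin (n + 1)) (U : (X₀).Opens) (r : Γ(X₀, U))
    (x : ProjectiveSpectrum 𝔓) (hx : x ∈ U) :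
    wval (dFun i U r) x hx = locDer i x (evalPt U x hx r) := rfl

theorem dFun_add (i : Fin (n + 1)) (U : (X₀).Opens) (r r' : Γ(X₀, U)) :
    dFun i U (r + r') = dFun i U r + dFun i U r' :=
  wval_ext fun x hx => (congrArg (locDer i x) (map_add (evalPt U x hx) r r')).trans (map_add _ _ _)

theorem dFun_mul (i : Fin (n + 1)) (U : (X₀).Opens) (r r' : Γ(X₀, U)) :
    dFun i U (r * r') = r • dFun i U r' + r' • dFun i U r := by
  refine wval_ext fun x hx => ?_
  refine (congrArg (locDer i x) (map_mul (evalPt U x hx) r r')).trans ((locDer_mul _ _ _ _).trans ?_)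
  exact congrArg₂ (· + ·) (wval_smul r (dFun i U r') x hx).symm (wval_smul r' (dFun i U r) x hx).symm

theorem dFun_res (i : Fin (n + 1)) {U U' : (X₀).Opens} (h : U' ≤ U) (r : Γ(X₀, U)) :
    dFun i U' ((X₀).presheaf.map (homOfLE h).op r) = Groth.PicAux.res _ h (dFun i U r) :=
  wval_ext fun _ _ => rfl

/-- The value of a scalar. -/
theorem evalPt_appLE_scalar (U : (X₀).Opens) (r : R) (x : ProjectiveSpectrum 𝔓) (hx : x ∈ U) :
    evalPt U x hx ((CohB1.ProjSpace.toSpec n R).appLE ⊤ U le_top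
      ((Scheme.ΓSpecIso (CommRingCat.of R)).inv r)) = algebraMap (MvPolynomial (Fin (n + 1)) R) (L x) (C r) := by
  rw [← Localization.mk_one_eq_algebraMap]
  exact PnCoh.toGlobal_projSpace_val n R r U ⟨x, hx⟩

theorem app_algebraMap (W : (Spec (CommRingCat.of R)).Opens) (r : R) :
    (CohB1.ProjSpace.toSpec n R).app W (algebraMap R ((Spec.structureSheaf R).1.obj (op W)) r) =
      (CohB1.ProjSpace.toSpec n R).appLE ⊤ (CohB1.ProjSpace.toSpec n R ⁻¹ᵁ W) le_top
        ((Scheme.ΓSpecIso (CommRingCat.of R)).inv r) :=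
  congr($((CohB1.ProjSpace.toSpec n R).naturality (homOfLE (le_top : W ≤ ⊤)).op)
    ((Scheme.ΓSpecIso (CommRingCat.of R)).inv r))

/-- A derivative vanishes on a function killed into a constant by an invertible constant. -/
theorem locDer_eq_zero_of_mul (i : Fin (n + 1)) (x : ProjectiveSpectrum 𝔓) (q : L x) (a b : R)
    (h : q * algebraMap (MvPolynomial (Fin (n + 1)) R) (L x) (C b) =
      algebraMap (MvPolynomial (Fin (n + 1)) R) (L x) (C a))
    (hb : IsUnit (algebraMap (MvPolynomial (Fin (n + 1)) R) (L x) (C b))) : locDer i x q = 0 := by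
  have h2 := congrArg (locDer i x) h
  rw [locDer_mul, locDer_algebraMap, locDer_algebraMap, pderiv_C, pderiv_C, map_zero, mul_zero,
    zero_add] at h2
  exact (hb.mul_right_eq_zero).1 h2

theorem dFun_app_eq_zero (i : Fin (n + 1)) (V : (Spec (CommRingCat.of R)).Opens)
    (c : Γ(Spec (CommRingCat.of R), V)) :
    dFun i (CohB1.ProjSpace.toSpec n R ⁻¹ᵁ V) ((CohB1.ProjSpace.toSpec n R).app V c) = 0 := by
  refine wval_ext fun x hx => ?_
  obtain ⟨_, ⟨b, rfl⟩, hxb, hbV⟩ := PrimeSpectrum.isTopologicalBasis_basic_opens.exists_subset_of_mem_open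
    (show CohB1.ProjSpace.toSpec n R x ∈ V from hx) V.2
  let W : (Spec (CommRingCat.of R)).Opens := PrimeSpectrum.basicOpen b
  have hW : W ≤ V := hbV
  let S := (Spec.structureSheaf R).1.obj (op W)
  obtain ⟨⟨a, ⟨_, m, rfl⟩⟩, hsurj⟩ := IsLocalization.surj (Submonoid.powers b)
    (S := S) ((Spec (CommRingCat.of R)).presheaf.map (homOfLE hW).op c)
  let φ : S →+* L x :=
    (evalPt (CohB1.ProjSpace.toSpec n R ⁻¹ᵁ W) x hxb).comp ((CohB1.ProjSpace.toSpec n R).app W).hom
  have hφ : ∀ r : R, φ (algebraMap R S r) = algebraMap (MvPolynomial (Fin (n + 1)) R) (L x) (C r) :=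
    fun r => (congrArg (evalPt _ x hxb) (app_algebraMap W r)).trans
      (evalPt_appLE_scalar _ r x hxb)
  have hq : φ ((Spec (CommRingCat.of R)).presheaf.map (homOfLE hW).op c) =
      evalPt (CohB1.ProjSpace.toSpec n R ⁻¹ᵁ V) x hx ((CohB1.ProjSpace.toSpec n R).app V c) :=
    congrArg (evalPt _ x hxb) congr($((CohB1.ProjSpace.toSpec n R).naturality (homOfLE hW).op) c)
  refine locDer_eq_zero_of_mul i x _ a (b ^ m) ?_ ?_
  · rw [← hq, ← hφ, ← hφ]
    exact (φ.map_mul _ _).symm.trans (congrArg φ hsurj)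
  · rw [← hφ]
    exact (IsLocalization.map_units S (⟨b ^ m, m, rfl⟩ : Submonoid.powers b)).map φ

/-- `∂_i : O → O(-1)` as a derivation over `R`. -/
def der (i : Fin (n + 1)) : OmegaSh.Der (CohB1.ProjSpace.toSpec n R) (Twist.twistProjSpace n R (-1)) where
  d {U} := AddMonoidHom.mk' (fun r => dFun i U.unop r) (fun r r' => dFun_add i U.unop r r')
  d_mul {U} r r' := dFun_mul i U.unop r r'
  d_map {U U'} h r := dFun_res i h.unop.le r
  d_app {V} c := dFun_app_eq_zero i V.unop c

theorem der_app (i : Fin (n + 1)) (U : (X₀).Opens) (r : Γ(X₀, U)) :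
    (der i).app U r = dFun i U r := rfl

end Groth.PnEuler
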