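import Groth.Agent.PnEuler.Det
import Groth.Agent.PnEuler.EndOmega
import Groth.Agent.KTheory.KvbPull
import Groth.Agent.PicAux.PullTensor
import Groth.Agent.PicAux.Powers
import Groth.Agent.Variety2.ProjPoints
import Groth.Agent.Duality.SheafHomTwist
import Groth.Agent.Duality.PnMulPoly

/-!
# The sheaf of differentials of projective space restricted to a linear subspace
-/

set_option autoImplicit false

universe u

open CategoryTheory CategoryTheory.Limits AlgebraicGeometry Opposite TopologicalSpace MvPolynomial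
open Groth.Ega2Proj Groth.PicAux

noncomputable section

attribute [local instance] HasFiniteBiproducts.of_hasFiniteProducts

namespace Groth.PnEuler

/-! ## Matrices of scalars -/

section Matrix

variable {n : ℕ} {k : Type u} [CommRing k]

variable (n k) in
/-- The constant family `O(-1)`. -/
abbrev famI (p : Type) : p → (CohB1.ProjSpace n k).Modules := fun _ => Twist.twistProjSpace n k (-1)

variable (n k) in
/-- `O(-1)^p`. -/
abbrev midI (p : Type) [Fintype p] : (CohB1.ProjSpace n k).Modules := ⨁ famI n k p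

/-- Multiplication by a constant on `O(-1)`. -/
def sc (c : k) : Twist.twistProjSpace n k (-1) ⟶ Twist.twistProjSpace n k (-1) :=
  Groth.HilbStab.scalar (scal ⊤ c) _

theorem sc_app (c : k) (U : (CohB1.ProjSpace n k).Opens) (s : Γ(Twist.twistProjSpace n k (-1), U)) :
    (sc c).app U s = scal U c • s :=
  scalar_scal_app c _ U s

theorem sc_one : sc (n := n) (1 : k) = 𝟙 _ :=
  Groth.CohTwo.hom_ext_app fun U s => by rw [sc_app, map_one, one_smul]; rfl

theorem sc_zero : sc (n := n) (0 : k) = 0 :=
  Groth.CohTwo.hom_ext_app fun U s => by rw [sc_app, map_zero, zero_smul]; rfl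

theorem sc_sum_mul {q : Type} [Fintype q] (a b : q → k) :
    ∑ j, sc (n := n) (a j) ≫ sc (b j) = sc (∑ j, b j * a j) :=
  Groth.CohTwo.hom_ext_app fun U s => by
    rw [app_sum, sc_app, map_sum, Finset.sum_smul]
    refine Finset.sum_congr rfl fun j _ => ?_
    change (sc (b j)).app U ((sc (a j)).app U s) = _
    rw [sc_app, sc_app, map_mul, mul_smul]

variable {p q r : Type} [Fintype p] [Fintype q] [Fintype r]

/-- The map `O(-1)^p → O(-1)^q` of a linear map `k^p → k^q`. -/
def mor [DecidableEq p] (A : (p → k) →ₗ[k] (q → k)) : midI n k p ⟶ midI n k q :=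
  biproduct.desc fun i => biproduct.lift fun j => sc (A (Pi.single i 1) j)

theorem ι_mor_π [DecidableEq p] (A : (p → k) →ₗ[k] (q → k)) (i : p) (j : q) :
    biproduct.ι (famI n k p) i ≫ mor A ≫ biproduct.π (famI n k q) j = sc (A (Pi.single i 1) j) := by
  rw [← Category.assoc]
  refine (congrArg (· ≫ biproduct.π (famI n k q) j) (biproduct.ι_desc (f := famI n k p) _ i)).trans ?_
  exact biproduct.lift_π (f := famI n k q) _ j

theorem mor_id [DecidableEq p] : mor (n := n) (LinearMap.id : (p → k) →ₗ[k] (p → k)) = 𝟙 _ := by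
  refine biproduct.hom_ext' (f := famI n k p) _ _ fun i => biproduct.hom_ext (f := famI n k p) _ _ fun j => ?_
  rw [Category.assoc, ι_mor_π, Category.comp_id, LinearMap.id_apply]
  rcases eq_or_ne i j with rfl | h
  · rw [Pi.single_eq_same, sc_one, biproduct.ι_π_self]
  · rw [Pi.single_eq_of_ne (Ne.symm h), sc_zero, biproduct.ι_π_ne _ h]

theorem mor_comp [DecidableEq p] [DecidableEq q] (A : (p → k) →ₗ[k] (q → k)) (B : (q → k) →ₗ[k] (r → k)) :
    mor (n := n) A ≫ mor B = mor (B ∘ₗ A) := by
  refine biproduct.hom_ext' (f := famI n k p) _ _ fun i => biproduct.hom_ext (f := famI n k r) _ _ fun l => ?_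
  rw [Category.assoc, Category.assoc, ← Category.id_comp (mor (n := n) B ≫ biproduct.π (famI n k r) l),
    ← biproduct.total (f := famI n k q), Preadditive.sum_comp, Preadditive.comp_sum, Preadditive.comp_sum,
    Category.assoc, ι_mor_π]
  refine Eq.trans (Finset.sum_congr rfl fun j _ => ?_) ((sc_sum_mul (n := n)
    (fun j => A (Pi.single i 1) j) (fun j => B (Pi.single j 1) l)).trans (congrArg sc ?_))
  · simp only [Category.assoc]
    rw [ι_mor_π, ← Category.assoc, ← Category.assoc, Category.assoc (biproduct.ι (famI n k p) i), ι_mor_π]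
  · rw [LinearMap.comp_apply, pi_eq_sum_univ' (A (Pi.single i 1)), map_sum, Finset.sum_apply]
    refine Finset.sum_congr rfl fun j _ => ?_
    rw [← pi_eq_sum_univ', map_smul, Pi.smul_apply, smul_eq_mul, mul_comm]

/-- The isomorphism of a linear equivalence. -/
def morIso [DecidableEq p] [DecidableEq q] (e : (p → k) ≃ₗ[k] (q → k)) : midI n k p ≅ midI n k q where
  hom := mor e.toLinearMap
  inv := mor e.symm.toLinearMap
  hom_inv_id := by rw [mor_comp, e.symm_comp, mor_id]
  inv_hom_id := by rw [mor_comp, e.comp_symm, mor_id]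

end Matrix

variable {m n : ℕ} {k : Type u} [Field k]

/-- The coefficients of a linear form. -/
theorem linear_form_eq {f : MvPolynomial (Fin (m + 1)) k} (hf : f.IsHomogeneous 1) :
    f = ∑ a, C (f.coeff (Finsupp.single a 1)) * X a := by
  classical
  ext d
  rw [coeff_sum]
  simp only [coeff_C_mul, coeff_X', mul_ite, mul_one, mul_zero]
  by_cases h : ∃ a, Finsupp.single a 1 = d
  · obtain ⟨a, rfl⟩ := h
    rw [Finset.sum_eq_single a (fun b _ hb => if_neg fun e => hb
      (Finsupp.single_left_injective one_ne_zero e)) (fun h => absurd (Finset.mem_univ _) h), if_pos rfl]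
  · push Not at h
    rw [Finset.sum_eq_zero fun a _ => if_neg (h a)]
    by_contra hc
    have hd : d.degree = 1 := by
      have := hf hc
      rwa [Finsupp.degree_eq_weight_one]
    obtain ⟨a, ha⟩ : d.support.Nonempty := by
      by_contra he
      rw [Finset.not_nonempty_iff_eq_empty, Finsupp.support_eq_empty] at he
      simp [he] at hd
    have hsum : ∑ b ∈ d.support, d b = 1 := hd
    rw [← Finset.add_sum_erase _ _ ha] at hsum
    have ha1 : d a ≠ 0 := Finsupp.mem_support_iff.1 ha
    refine h a (Finsupp.ext fun b => ?_)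
    rcases eq_or_ne b a with rfl | hba
    · rw [Finsupp.single_eq_same]; omega
    · rw [Finsupp.single_eq_of_ne hba]
      by_contra hb
      have := Finset.single_le_sum (f := fun b => d b) (fun _ _ => Nat.zero_le _)
        (Finset.mem_erase.2 ⟨hba, Finsupp.mem_support_iff.2 (Ne.symm hb)⟩)
      have hb0 : d b ≠ 0 := Ne.symm hb
      omega

/-- A common zero of linear forms gives a point where they all lie in the prime. -/
theorem exists_point (w : Fin (m + 1) → k) (hw : w ≠ 0) :
    ∃ x : ProjectiveSpectrum (CohB1.polyGrading m k), ∀ f : MvPolynomial (Fin (m + 1)) k,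
      f.IsHomogeneous 1 → MvPolynomial.eval w f = 0 → f ∈ x.asHomogeneousIdeal := by
  obtain ⟨j, hj⟩ := Function.ne_iff.1 hw
  let ψ : MvPolynomial (Fin (m + 1)) k →ₐ[k] Polynomial k :=
    aeval fun a => Polynomial.C (w a) * Polynomial.X
  have hψ : ∀ (d : ℕ) (f : MvPolynomial (Fin (m + 1)) k), f.IsHomogeneous d →
      ψ f = Polynomial.C (MvPolynomial.eval w f) * Polynomial.X ^ d := fun d f hf => by
    conv_lhs => rw [f.as_sum]
    conv_rhs => rw [f.as_sum]
    rw [map_sum, map_sum, map_sum, Finset.sum_mul]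
    refine Finset.sum_congr rfl fun e he => ?_
    have hdeg : e.degree = d := by
      rw [Finsupp.degree_eq_weight_one]
      exact hf (mem_support_iff.1 he)
    simp only [ψ, aeval_monomial, eval_monomial, map_mul, map_pow, Finsupp.prod, mul_pow, map_prod,
      Polynomial.algebraMap_eq, Finset.prod_mul_distrib, Finset.prod_pow_eq_pow_sum]
    rw [show (∑ a ∈ e.support, e a) = d from hdeg]
    ring
  have hhom : (RingHom.ker ψ).IsHomogeneous (CohB1.polyGrading m k) := by
    intro d f hf
    rw [RingHom.mem_ker] at hf ⊢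
    change ψ (MvPolynomial.decomposition.decompose' f d : MvPolynomial (Fin (m + 1)) k) = 0
    rw [MvPolynomial.decomposition.decompose'_apply]
    rw [hψ d _ (homogeneousComponent_isHomogeneous d f)]
    have h1 : ψ f = ∑ e ∈ Finset.range (f.totalDegree + 1),
        Polynomial.C (MvPolynomial.eval w (homogeneousComponent e f)) * Polynomial.X ^ e := by
      conv_lhs => rw [← sum_homogeneousComponent f, map_sum]
      exact Finset.sum_congr rfl fun e _ => hψ e _ (homogeneousComponent_isHomogeneous e f)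
    by_cases hd : d ∈ Finset.range (f.totalDegree + 1)
    · have h2 := congrArg (fun P => Polynomial.coeff P d) (h1.symm.trans hf)
      simp only [Polynomial.finsetSum_coeff, Polynomial.coeff_C_mul_X_pow, Polynomial.coeff_zero,
        Finset.sum_ite_eq, if_pos hd] at h2
      rw [h2, map_zero, zero_mul]
    · rw [homogeneousComponent_eq_zero _ _ (by simpa using hd), map_zero, map_zero, zero_mul]
  refine ⟨Variety2.PSpace.mkPt (RingHom.ker ψ) hhom (RingHom.ker_isPrime _) (i := j) ?_, fun f hf h0 => ?_⟩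
  · rw [RingHom.mem_ker]
    simp only [ψ, aeval_X, mul_eq_zero, Polynomial.C_eq_zero, Polynomial.X_ne_zero, or_false]
    exact hj
  · change f ∈ RingHom.ker ψ
    rw [RingHom.mem_ker, hψ 1 f hf, h0, map_zero, zero_mul]

/-- Multiplication by a linear form. -/
def linMul {f : MvPolynomial (Fin (m + 1)) k} (hf : f ∈ CohB1.polyGrading m k 1) :
    Twist.twistProjSpace m k (-1) ⟶ Twist.twistProjSpace m k 0 :=
  Groth.Duality.Pn.mulEl (CohB1.polyGrading m k) hf (d := -1) (d' := 0) (by norm_num)

theorem val_linMul {f : MvPolynomial (Fin (m + 1)) k} (hf : f ∈ CohB1.polyGrading m k 1)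
    (U : (CohB1.ProjSpace m k).Opens) (s : Γ(Twist.twistProjSpace m k (-1), U))
    (x : ProjectiveSpectrum (CohB1.polyGrading m k)) (hx : x ∈ U) :
    val ((linMul hf).app U s) x hx =
      algebraMap _ (Twist.Loc (CohB1.polyGrading m k) x) f * val s x hx := by
  rw [← Localization.mk_one_eq_algebraMap]
  exact Groth.Duality.Pn.wval_mulEl (CohB1.polyGrading m k) hf _ U s x hx

/-- An epimorphism `O(-1)^p → O` given by linear forms has forms without a common zero. -/
theorem eq_zero_of_epi {p : Type} [Fintype p] (f : p → MvPolynomial (Fin (m + 1)) k)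
    (hf : ∀ l, f l ∈ CohB1.polyGrading m k 1)
    [Epi (biproduct.desc (f := famI m k p) fun l =>
      linMul (hf l))]
    (w : Fin (m + 1) → k) (hw : ∀ l, MvPolynomial.eval w (f l) = 0) : w = 0 := by
  classical
  by_contra hne
  obtain ⟨x, hx⟩ := exists_point w hne
  let g := biproduct.desc (f := famI m k p) fun l =>
      linMul (hf l)
  obtain ⟨t, ht⟩ := (Groth.QCohMod.epi_iff_stalk g).1 inferInstance x
    ((Twist.twistProjSpace m k 0).presheaf.germ ⊤ x (Set.mem_univ _ : x ∈ (⊤ : (CohB1.ProjSpace m k).Opens)) (ee ⊤))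
  obtain ⟨U, hxU, s, rfl⟩ := TopCat.Presheaf.exists_germ_eq (midI m k p).presheaf t
  erw [TopCat.Presheaf.stalkFunctor_map_germ_apply U x hxU g.mapPresheaf] at ht
  rw [Scheme.Modules.mapPresheaf_app] at ht
  obtain ⟨W, hxW, i₁, i₂, hres⟩ := TopCat.Presheaf.germ_eq (Twist.twistProjSpace m k 0).presheaf x hxU (Set.mem_univ _ : x ∈ (⊤ : (CohB1.ProjSpace m k).Opens)) (g.app U s) (ee ⊤) ht
  have h1 : val (g.app U s) x hxU = 1 := by
    have h2 := congrArg (fun z => val z x hxW) hres
    exact (h2.trans (val_ee (n := m) (R := k) ⊤ x (Set.mem_univ _)))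
  have hg : g.app U s = ∑ l, (linMul (hf l)).app U ((biproduct.π (famI m k p) l).app U s) := by
    conv_lhs => rw [show s = (𝟙 (midI m k p) : midI m k p ⟶ _).app U s from rfl,
      ← biproduct.total (f := famI m k p), app_sum, map_sum]
    refine Finset.sum_congr rfl fun l _ => ?_
    exact congr($(biproduct.ι_desc (f := famI m k p) (fun l => linMul (hf l)) l).app U ((biproduct.π (famI m k p) l).app U s))
  rw [hg, val_sum] at h1
  have hmem : ∀ l ∈ (Finset.univ : Finset p), val ((linMul (hf l)).app U ((biproduct.π (famI m k p) l).app U s)) x hxU ∈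
      IsLocalRing.maximalIdeal (Twist.Loc (CohB1.polyGrading m k) x) := fun l _ => by
    rw [val_linMul, ← Localization.mk_one_eq_algebraMap]
    refine Ideal.mul_mem_right _ _ ?_
    rw [Localization.mk_eq_mk']
    exact (IsLocalization.AtPrime.mk'_mem_maximal_iff _ x.asHomogeneousIdeal.toIdeal (f l) 1).2 (hx (f l) ((mem_homogeneousSubmodule _ _).1 (hf l)) (hw l))
  exact one_notMem' (h1 ▸ Ideal.sum_mem _ hmem)
where
  one_notMem' {A : Type u} [CommRing A] [IsLocalRing A] (h : (1 : A) ∈ IsLocalRing.maximalIdeal A) : False :=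
    IsLocalRing.maximalIdeal.isMaximal A |>.ne_top ((Ideal.eq_top_iff_one _).2 h)

variable (m) in
/-- The Euler map plus zero. -/
def epsZero (q : ℕ) : midI m k (Fin (m + 1) ⊕ Fin q) ⟶ Twist.twistProjSpace m k 0 :=
  biproduct.desc (Sum.elim (fun a => mulX a) fun _ => 0)

/-- The kernel of `epsZero`. -/
theorem nonempty_kernel_epsZero (q : ℕ) :
    Nonempty (kernel (epsZero (k := k) m q) ≅
      Omega.sheaf (CohB1.ProjSpace.toSpec m k) ⊞ midI m k (Fin q)) := by
  have hS := shortExact_eulerSeq (n := m) (R := k)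
  let J₁ : mid m k ⟶ midI m k (Fin (m + 1) ⊕ Fin q) :=
    biproduct.desc (f := fam m k) fun a => biproduct.ι (famI m k (Fin (m + 1) ⊕ Fin q)) (Sum.inl a)
  let J₂ : midI m k (Fin q) ⟶ midI m k (Fin (m + 1) ⊕ Fin q) :=
    biproduct.desc (f := famI m k (Fin q)) fun b => biproduct.ι (famI m k (Fin (m + 1) ⊕ Fin q)) (Sum.inr b)
  let P₁ : midI m k (Fin (m + 1) ⊕ Fin q) ⟶ mid m k :=
    biproduct.lift (f := fam m k) fun a => biproduct.π (famI m k (Fin (m + 1) ⊕ Fin q)) (Sum.inl a)
  let P₂ : midI m k (Fin (m + 1) ⊕ Fin q) ⟶ midI m k (Fin q) :=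
    biproduct.lift (f := famI m k (Fin q)) fun b => biproduct.π (famI m k (Fin (m + 1) ⊕ Fin q)) (Sum.inr b)
  have htot : P₁ ≫ J₁ + P₂ ≫ J₂ = 𝟙 _ := by
    rw [biproduct.lift_desc, biproduct.lift_desc, ← biproduct.total, Fintype.sum_sum_type]
  have h11 : J₁ ≫ P₁ = 𝟙 _ := biproduct.hom_ext' (f := fam m k) _ _ fun a =>
    biproduct.hom_ext (f := fam m k) _ _ fun b => by
      simp only [J₁, P₁, Category.assoc, biproduct.ι_desc_assoc, biproduct.lift_π, Category.comp_id]
      rcases eq_or_ne a b with rfl | h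
      · rw [biproduct.ι_π_self, biproduct.ι_π_self]
      · rw [biproduct.ι_π_ne _ h, biproduct.ι_π_ne _ (fun e => h (Sum.inl_injective e))]
  have h22 : J₂ ≫ P₂ = 𝟙 _ := biproduct.hom_ext' (f := famI m k (Fin q)) _ _ fun a =>
    biproduct.hom_ext (f := famI m k (Fin q)) _ _ fun b => by
      simp only [J₂, P₂, Category.assoc, biproduct.ι_desc_assoc, biproduct.lift_π, Category.comp_id]
      rcases eq_or_ne a b with rfl | h
      · rw [biproduct.ι_π_self, biproduct.ι_π_self]
      · rw [biproduct.ι_π_ne _ h, biproduct.ι_π_ne _ (fun e => h (Sum.inr_injective e))]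
  have h12 : J₁ ≫ P₂ = 0 := biproduct.hom_ext' (f := fam m k) _ _ fun a =>
    biproduct.hom_ext (f := famI m k (Fin q)) _ _ fun b => by
      simp only [J₁, P₂, Category.assoc, biproduct.ι_desc_assoc, biproduct.lift_π, comp_zero, zero_comp]
      exact biproduct.ι_π_ne _ (by simp)
  have h21 : J₂ ≫ P₁ = 0 := biproduct.hom_ext' (f := famI m k (Fin q)) _ _ fun a =>
    biproduct.hom_ext (f := fam m k) _ _ fun b => by
      simp only [J₂, P₁, Category.assoc, biproduct.ι_desc_assoc, biproduct.lift_π, comp_zero, zero_comp]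
      exact biproduct.ι_π_ne _ (by simp)
  have hJ₁ : J₁ ≫ epsZero (k := k) m q = eps m k := biproduct.hom_ext' (f := fam m k) _ _ fun a => by
    simp only [J₁, eps, epsZero, biproduct.ι_desc_assoc, biproduct.ι_desc, Sum.elim_inl]
  have hJ₂ : J₂ ≫ epsZero (k := k) m q = 0 := biproduct.hom_ext' (f := famI m k (Fin q)) _ _ fun a => by
    simp only [J₂, epsZero, biproduct.ι_desc_assoc, biproduct.ι_desc, Sum.elim_inr, comp_zero]
  let F : Omega.sheaf (CohB1.ProjSpace.toSpec m k) ⊞ midI m k (Fin q) ⟶ midI m k (Fin (m + 1) ⊕ Fin q) :=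
    biprod.desc (iota m k ≫ J₁) J₂
  haveI : Mono (iota m k) := hS.mono_f
  have hFP₁ : F ≫ P₁ = biprod.fst ≫ iota m k := by
    refine biprod.hom_ext' _ _ ?_ ?_
    · rw [biprod.inl_desc_assoc, biprod.inl_fst_assoc, Category.assoc, h11, Category.comp_id]
    · rw [biprod.inr_desc_assoc, biprod.inr_fst_assoc, h21, zero_comp]
  have hFP₂ : F ≫ P₂ = biprod.snd := by
    refine biprod.hom_ext' _ _ ?_ ?_
    · rw [biprod.inl_desc_assoc, biprod.inl_snd, Category.assoc, h12, comp_zero]
    · rw [biprod.inr_desc_assoc, biprod.inr_snd, h22]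
  have hF : F ≫ epsZero (k := k) m q = 0 := by
    refine biprod.hom_ext' _ _ ?_ ?_
    · rw [biprod.inl_desc_assoc, Category.assoc, hJ₁, iota_eps, comp_zero]
    · rw [biprod.inr_desc_assoc, hJ₂, comp_zero]
  haveI : Mono F := Preadditive.mono_of_cancel_zero _ fun h hh => by
    refine biprod.hom_ext _ _ ?_ ?_
    · rw [← cancel_mono (iota m k), Category.assoc, ← hFP₁, ← Category.assoc, hh, zero_comp,
        zero_comp, zero_comp]
    · rw [← hFP₂, ← Category.assoc, hh, zero_comp, zero_comp]
  have hlift : ∀ {W : (CohB1.ProjSpace m k).Modules} (g : W ⟶ midI m k (Fin (m + 1) ⊕ Fin q)),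
      g ≫ epsZero (k := k) m q = 0 → ∃ l, l ≫ F = g := fun {W} g hg => by
    have h1 : (g ≫ P₁) ≫ eps m k = 0 := by
      conv_lhs => rw [← hJ₁, Category.assoc]
      calc g ≫ P₁ ≫ J₁ ≫ epsZero (k := k) m q
          = g ≫ (𝟙 _ - P₂ ≫ J₂) ≫ epsZero (k := k) m q := by
            rw [← htot, add_sub_cancel_right, Category.assoc]
        _ = 0 := by
            rw [Preadditive.sub_comp, Category.id_comp, Category.assoc, hJ₂, comp_zero, sub_zero, hg]
    obtain ⟨L, h2⟩ : ∃ L : W ⟶ Omega.sheaf (CohB1.ProjSpace.toSpec m k), L ≫ iota m k = g ≫ P₁ :=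
      ⟨_, hS.fIsKernel.fac (KernelFork.ofι _ h1) WalkingParallelPair.zero⟩
    refine ⟨biprod.lift L (g ≫ P₂), ?_⟩
    rw [biprod.lift_desc]
    refine (congrArg (· + (g ≫ P₂) ≫ J₂) ((Category.assoc _ _ _).symm.trans (congrArg (· ≫ J₁) h2))).trans ?_
    rw [Category.assoc, Category.assoc, ← Preadditive.comp_add, htot, Category.comp_id]
  choose l hl using @hlift
  let hlim : IsLimit (KernelFork.ofι F hF) :=
    KernelFork.IsLimit.ofι' F hF fun g hg => ⟨l g hg, hl g hg⟩
  exact ⟨(kernelIsKernel _).conePointUniqueUpToIso hlim⟩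

/-- `i^*Ω ≅ Ω ⊕ O(-1)^q` for a linear embedding. -/
theorem nonempty_pullback_omega (i : CohB1.ProjSpace m k ⟶ CohB1.ProjSpace n k)
    (hO : Nonempty ((Scheme.Modules.pullback i).obj (Twist.twistProjSpace n k 1) ≅ Twist.twistProjSpace m k 1)) :
    ∃ q : ℕ, m + q = n ∧
    Nonempty ((Scheme.Modules.pullback i).obj (Omega.sheaf (CohB1.ProjSpace.toSpec n k)) ≅
      Omega.sheaf (CohB1.ProjSpace.toSpec m k) ⊞ midI m k (Fin q)) := by
  classical
  obtain ⟨e⟩ := hO
  let P := Scheme.Modules.pullback i
  haveI : PreservesColimitsOfSize.{0, 0} P :=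
    (Scheme.Modules.pullbackPushforwardAdjunction i).leftAdjoint_preservesColimits
  haveI : P.Additive := Functor.additive_of_preserves_binary_products P
  obtain ⟨e₁⟩ : Nonempty (P.obj (Twist.twistProjSpace n k (-1)) ≅ Twist.twistProjSpace m k (-1)) := by
    have h := isInverseOf_pullback i (Groth.Duality.Pn.isInverseOf_twist n k 1)
    obtain ⟨t⟩ := Groth.Duality.Pn.isInverseOf_twist m k 1
    exact isInverseOf_unique h ⟨PicGrp.tensorModIso e (Iso.refl _) ≪≫ t⟩
  obtain ⟨e₀⟩ : Nonempty (P.obj (Twist.twistProjSpace n k 0) ≅ Twist.twistProjSpace m k 0) := by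
    obtain ⟨a⟩ := Groth.PnCoh.nonempty_twist_zero_iso (CohB1.polyGrading n k)
    obtain ⟨b⟩ := Groth.PnCoh.nonempty_twist_zero_iso (CohB1.polyGrading m k)
    obtain ⟨c⟩ := pullback_structure_iso i
    exact ⟨P.mapIso a ≪≫ c ≪≫ b.symm⟩
  choose f hf hfeq using fun l : Fin (n + 1) => Groth.Duality.Pn.exists_eq_mulEl (n := m) (R := k)
    (a := -1) (b := 0) 1 (by norm_num) (e₁.inv ≫ P.map (mulX l) ≫ e₀.hom)
  let C : (Fin (n + 1) → k) →ₗ[k] (Fin (m + 1) → k) :=
    Fintype.linearCombination k fun l a => (f l).coeff (Finsupp.single a 1)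
  let φ : midI m k (Fin (n + 1)) ⟶ Twist.twistProjSpace m k 0 :=
    biproduct.desc fun l => linMul (hf l)
  have hC : mor C ≫ eps m k = φ := biproduct.hom_ext' (f := famI m k (Fin (n + 1))) _ _ fun l => by
    rw [biproduct.ι_desc, ← Category.id_comp (eps m k), ← biproduct.total (f := fam m k),
      Preadditive.sum_comp, Preadditive.comp_sum, Preadditive.comp_sum]
    refine Groth.CohTwo.hom_ext_app fun U s => val_ext fun x hx => ?_
    rw [app_sum, val_sum]
    refine Eq.trans ?_ (val_linMul (hf l) U s x hx).symm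
    conv_rhs => rw [linear_form_eq ((mem_homogeneousSubmodule _ _).1 (hf l)), map_sum, Finset.sum_mul]
    refine Finset.sum_congr rfl fun a _ => ?_
    rw [show biproduct.ι (famI m k (Fin (n + 1))) l ≫ mor C ≫ (biproduct.π (fam m k) a ≫ biproduct.ι (fam m k) a) ≫ eps m k
        = sc (C (Pi.single l 1) a) ≫ mulX a by
      rw [eps, Category.assoc, biproduct.ι_desc, ← Category.assoc (mor C), ← Category.assoc]
      exact congrArg (· ≫ mulX a) (ι_mor_π C l a)]
    change val ((mulX a).app U ((sc _).app U s)) x hx = _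
    rw [val_mulX, sc_app, val_smul, evalPt_scal, map_mul, mul_left_comm, ← mul_assoc]
    simp only [C, Fintype.linearCombination_apply_single, one_smul]
  let M : P.obj (mid n k) ≅ midI m k (Fin (n + 1)) :=
    P.mapBiproduct (fam n k) ≪≫ biproduct.mapIso fun _ => e₁
  have hM : P.map (eps n k) ≫ e₀.hom = M.hom ≫ φ := by
    refine (cancel_epi M.inv).1 ?_
    rw [Iso.inv_hom_id_assoc]
    refine biproduct.hom_ext' (f := famI m k (Fin (n + 1))) _ _ fun l => ?_
    rw [biproduct.ι_desc, linMul, ← hfeq l]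
    have h1 : biproduct.ι (famI m k (Fin (n + 1))) l ≫ M.inv = e₁.inv ≫ P.map (inj n k l) := by
      simp [M, famI, inj]
      exact biproduct.ι_desc (f := P.obj ∘ fam n k) _ l
    rw [← Category.assoc, h1, Category.assoc, ← P.map_comp_assoc]
    exact congrArg (fun z => e₁.inv ≫ P.map z ≫ e₀.hom) (biproduct.ι_desc (f := fam n k) _ l)
  have hS := shortExact_eulerSeq (n := n) (R := k)
  have h₁ : FlatMod.IsFinLocFree (eulerSeq n k).X₁ :=
    Groth.LocFree.isFinLocFree_of_rank isFinLocFreeOfRank_omega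
  have h₃ : FlatMod.IsFinLocFree (eulerSeq n k).X₃ :=
    Groth.LocFree.isFinLocFree_of_rank
      (Groth.LocFree.isInvertible_iff_ofRank_one.1 (Groth.PnCoh.isInvertible_twist n k 0))
  have hS' := Groth.KTheory.KvbPull.shortExact_pullback i hS h₁
    (Groth.KTheory.LocFree.isFinLocFree_of_shortExact hS h₁ h₃) h₃
  haveI : Epi (P.map (eps n k)) := hS'.epi_g
  haveI : Epi φ := by
    have : Epi (M.hom ≫ φ) := hM ▸ (inferInstance : Epi (P.map (eps n k) ≫ e₀.hom))
    exact epi_of_epi M.hom φ
  haveI : Epi (biproduct.desc (f := famI m k (Fin (n + 1))) fun l =>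
      linMul (hf l)) := ‹Epi φ›
  have hsurj : Function.Surjective C := by
    rw [← LinearMap.range_eq_top]
    by_contra hne
    obtain ⟨d, hd0, hd⟩ := Submodule.exists_dual_map_eq_bot_of_lt_top (lt_top_iff_ne_top.2 hne) inferInstance
    have hw := eq_zero_of_epi f hf (fun a => d (Pi.single a 1)) fun l => by
      have h1 : d (C (Pi.single l 1)) = 0 := by
        have : d (C (Pi.single l 1)) ∈ (LinearMap.range C).map d := Submodule.mem_map_of_mem ⟨_, rfl⟩
        rwa [hd, Submodule.mem_bot] at this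
      conv_lhs => rw [linear_form_eq ((mem_homogeneousSubmodule _ _).1 (hf l))]
      rw [map_sum]
      simp only [map_mul, eval_C, eval_X]
      rw [pi_eq_sum_univ' (C (Pi.single l 1)), map_sum] at h1
      simpa [C, map_smul, Fintype.linearCombination_apply_single] using h1
    exact hd0 (LinearMap.pi_ext' fun a => LinearMap.ext_ring (by simpa using congrFun hw a))
  have hmn : m + 1 ≤ n + 1 := by
    simpa using LinearMap.finrank_le_finrank_of_surjective hsurj
  refine ⟨n - m, by omega, ?_⟩
  have hker : Module.finrank k (LinearMap.ker C) = n - m := by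
    have h := C.finrank_range_add_finrank_ker
    rw [LinearMap.range_eq_top.2 hsurj, finrank_top, Module.finrank_fin_fun, Module.finrank_fin_fun] at h
    omega
  obtain ⟨s, hs⟩ := Module.projective_lifting_property C LinearMap.id hsurj
  let B := (Module.finBasisOfFinrankEq k _ hker).equivFun.symm
  let T : (Fin (m + 1) ⊕ Fin (n - m) → k) →ₗ[k] (Fin (n + 1) → k) :=
    s ∘ₗ LinearMap.funLeft k k Sum.inl + (LinearMap.ker C).subtype ∘ₗ B.toLinearMap ∘ₗ LinearMap.funLeft k k Sum.inr
  have hCT : C ∘ₗ T = LinearMap.funLeft k k Sum.inl := LinearMap.ext fun v => by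
    simp only [T, LinearMap.comp_apply, LinearMap.add_apply, map_add, LinearEquiv.coe_coe,
      Submodule.coe_subtype]
    rw [LinearMap.mem_ker.1 (B _).2, add_zero]
    exact LinearMap.congr_fun hs _
  have hT : Function.Bijective T := by
    have hinj : Function.Injective T := (injective_iff_map_eq_zero T).2 fun v hv => by
      have h1 : (fun a => v (Sum.inl a)) = 0 := by
        have := LinearMap.congr_fun hCT v
        rw [LinearMap.comp_apply, hv, map_zero] at this
        exact this.symm
      have h2 : (fun b => v (Sum.inr b)) = 0 := B.map_eq_zero_iff.1 (Subtype.ext (by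
        simp only [T, LinearMap.add_apply, LinearMap.comp_apply] at hv
        rw [show LinearMap.funLeft k k Sum.inl v = 0 from h1, map_zero, zero_add] at hv
        exact hv))
      exact funext fun j => j.casesOn (congrFun h1) (congrFun h2)
    refine ⟨hinj, ?_⟩
    refine (LinearMap.injective_iff_surjective_of_finrank_eq_finrank ?_).1 hinj
    simp
    omega
  let E : midI m k (Fin (m + 1) ⊕ Fin (n - m)) ≅ midI m k (Fin (n + 1)) :=
    morIso (LinearEquiv.ofBijective T hT)
  have hE : epsZero (k := k) m (n - m) = E.hom ≫ φ := by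
    rw [← hC, ← Category.assoc, show E.hom ≫ mor C = mor (n := m) (C ∘ₗ T) from mor_comp T C, hCT]
    refine biproduct.hom_ext' (f := famI m k (Fin (m + 1) ⊕ Fin (n - m))) _ _ fun j => ?_
    rw [epsZero, biproduct.ι_desc, ← Category.id_comp (eps m k), ← biproduct.total (f := fam m k),
      Preadditive.sum_comp, Preadditive.comp_sum, Preadditive.comp_sum]
    have key : ∀ a, biproduct.ι (famI m k (Fin (m + 1) ⊕ Fin (n - m))) j ≫
        mor (LinearMap.funLeft k k Sum.inl) ≫ (biproduct.π (fam m k) a ≫ biproduct.ι (fam m k) a) ≫ eps m k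
        = sc ((Pi.single j 1 : Fin (m + 1) ⊕ Fin (n - m) → k) (Sum.inl a)) ≫ mulX a := fun a => by
      rw [eps, Category.assoc, biproduct.ι_desc, ← Category.assoc (mor _), ← Category.assoc]
      exact congrArg (· ≫ mulX a) (ι_mor_π (LinearMap.funLeft k k Sum.inl) j a)
    simp only [key]
    rcases j with a | b
    · rw [Sum.elim_inl, Finset.sum_eq_single a (fun a' _ h => by
        rw [Pi.single_eq_of_ne (fun e => h (Sum.inl_injective e)), sc_zero, zero_comp])
        (fun h => absurd (Finset.mem_univ _) h), Pi.single_eq_same, sc_one, Category.id_comp]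
    · rw [Sum.elim_inr, Finset.sum_eq_zero fun a _ => ?_]
      rw [Pi.single_eq_of_ne (by simp), sc_zero, zero_comp]
  obtain ⟨K⟩ := nonempty_kernel_epsZero (k := k) (m := m) (n - m)
  exact ⟨((kernelIsKernel (P.map (eps n k))).conePointUniqueUpToIso hS'.fIsKernel).symm ≪≫
    kernel.mapIso _ _ (M ≪≫ E.symm) e₀ (by
      rw [hE, Iso.trans_hom, Iso.symm_hom, Category.assoc, E.inv_hom_id_assoc, hM]) ≪≫ K⟩

end Groth.PnEuler
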