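import Groth.Agent.Ega2Proj.TwistSheaf
import Groth.Agent.PnCoh.ToGlobal
import Groth.Prelude.Def_Twist2
import Mathlib.RingTheory.MvPolynomial.EulerIdentity
import Mathlib.Algebra.TrivSqZeroExt.Basic

/-!
# Partial derivatives on the local rings of projective space
-/

set_option autoImplicit false

universe u

open CategoryTheory AlgebraicGeometry Opposite TopologicalSpace MvPolynomial
open Groth.Ega2Proj

noncomputable section

namespace Groth.PnEuler

variable {n : ℕ} {R : Type u} [CommRing R]

local notation "𝔓" => CohB1.polyGrading n R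
local notation "A₀" => MvPolynomial (Fin (n + 1)) R

/-- The local ring at a point of projective space. -/
abbrev L (x : ProjectiveSpectrum (CohB1.polyGrading n R)) : Type u :=
  Twist.Loc (CohB1.polyGrading n R) x

/-- `a ↦ (a, ∂a)` into the dual numbers. -/
def dualHom (i : Fin (n + 1)) (x : ProjectiveSpectrum 𝔓) :
    A₀ →+* TrivSqZeroExt (L x) (L x) where
  toFun a := TrivSqZeroExt.inl (algebraMap A₀ (L x) a) + TrivSqZeroExt.inr (algebraMap A₀ (L x) (pderiv i a))
  map_one' := by ext <;> simp
  map_mul' a b := by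
    ext
    · simp
    · simp only [TrivSqZeroExt.snd_mul, TrivSqZeroExt.snd_add, TrivSqZeroExt.snd_inl, TrivSqZeroExt.snd_inr,
        TrivSqZeroExt.fst_add, TrivSqZeroExt.fst_inl, TrivSqZeroExt.fst_inr, zero_add, add_zero,
        Derivation.leibniz, map_add, map_mul, smul_eq_mul, MulOpposite.smul_eq_mul_unop,
        MulOpposite.unop_op]
      ring
  map_zero' := by ext <;> simp
  map_add' a b := by ext <;> simp

theorem fst_dualHom (i : Fin (n + 1)) (x : ProjectiveSpectrum 𝔓) (a : A₀) :
    (dualHom i x a).fst = algebraMap A₀ (L x) a := by simp [dualHom]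

theorem snd_dualHom (i : Fin (n + 1)) (x : ProjectiveSpectrum 𝔓) (a : A₀) :
    (dualHom i x a).snd = algebraMap A₀ (L x) (pderiv i a) := by simp [dualHom]

theorem isUnit_dualHom (i : Fin (n + 1)) (x : ProjectiveSpectrum 𝔓)
    (s : x.asHomogeneousIdeal.toIdeal.primeCompl) : IsUnit (dualHom i x s) := by
  rw [TrivSqZeroExt.isUnit_iff_isUnit_fst, fst_dualHom]
  exact IsLocalization.map_units (L x) s

/-- The extension to the local ring. -/
def dualLift (i : Fin (n + 1)) (x : ProjectiveSpectrum 𝔓) : L x →+* TrivSqZeroExt (L x) (L x) :=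
  IsLocalization.lift (isUnit_dualHom i x)

theorem fst_dualLift (i : Fin (n + 1)) (x : ProjectiveSpectrum 𝔓) (q : L x) :
    (dualLift i x q).fst = q := by
  have h : (TrivSqZeroExt.fstHom (L x) (L x) (L x)).toRingHom.comp (dualLift i x) = RingHom.id _ :=
    IsLocalization.ringHom_ext x.asHomogeneousIdeal.toIdeal.primeCompl (RingHom.ext fun a => by
      simp only [RingHom.comp_apply, dualLift, IsLocalization.lift_eq, RingHom.id_apply]
      exact fst_dualHom i x a)
  exact RingHom.congr_fun h q

/-- The partial derivative on the local ring. -/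
def locDer (i : Fin (n + 1)) (x : ProjectiveSpectrum 𝔓) : L x →+ L x where
  toFun q := (dualLift i x q).snd
  map_zero' := by simp
  map_add' p q := by simp

theorem locDer_mul (i : Fin (n + 1)) (x : ProjectiveSpectrum 𝔓) (p q : L x) :
    locDer i x (p * q) = p * locDer i x q + q * locDer i x p := by
  change (dualLift i x (p * q)).snd = p * (dualLift i x q).snd + q * (dualLift i x p).snd
  rw [map_mul, TrivSqZeroExt.snd_mul, fst_dualLift, fst_dualLift]
  simp only [smul_eq_mul, MulOpposite.smul_eq_mul_unop, MulOpposite.unop_op]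
  ring

theorem locDer_algebraMap (i : Fin (n + 1)) (x : ProjectiveSpectrum 𝔓) (a : A₀) :
    locDer i x (algebraMap A₀ (L x) a) = algebraMap A₀ (L x) (pderiv i a) := by
  change (dualLift i x (algebraMap A₀ (L x) a)).snd = _
  rw [dualLift, IsLocalization.lift_eq, snd_dualHom]

theorem lfrac_mul_algebraMap (x : ProjectiveSpectrum 𝔓) (a : A₀) {s : A₀}
    (hs : s ∉ x.asHomogeneousIdeal) :
    lfrac 𝔓 x a hs * algebraMap A₀ (L x) s = algebraMap A₀ (L x) a := by
  rw [lfrac, Localization.mk_eq_mk']
  exact IsLocalization.mk'_spec (L x) a (⟨s, hs⟩ : x.asHomogeneousIdeal.toIdeal.primeCompl)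

theorem isUnit_algebraMap (x : ProjectiveSpectrum 𝔓) {s : A₀} (hs : s ∉ x.asHomogeneousIdeal) :
    IsUnit (algebraMap A₀ (L x) s) :=
  IsLocalization.map_units (L x) (⟨s, hs⟩ : x.asHomogeneousIdeal.toIdeal.primeCompl)

/-- The quotient rule. -/
theorem locDer_lfrac (i : Fin (n + 1)) (x : ProjectiveSpectrum 𝔓) (a : A₀) {s : A₀}
    (hs : s ∉ x.asHomogeneousIdeal) (hss : s * s ∉ x.asHomogeneousIdeal) :
    locDer i x (lfrac 𝔓 x a hs) = lfrac 𝔓 x (pderiv i a * s - a * pderiv i s) hss := by
  have h1 := congrArg (locDer i x) (lfrac_mul_algebraMap x a hs)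
  rw [locDer_mul, locDer_algebraMap, locDer_algebraMap] at h1
  refine ((isUnit_algebraMap x hs).mul (isUnit_algebraMap x hs)).mul_left_injective ?_
  beta_reduce
  have h2 := lfrac_mul_algebraMap x (pderiv i a * s - a * pderiv i s) hss
  rw [map_mul] at h2
  rw [h2, map_sub, map_mul, map_mul, ← lfrac_mul_algebraMap x a hs]
  linear_combination (algebraMap A₀ (L x) s) * h1

/-- The derivative of a value of degree zero has degree `-1`. -/
theorem locDer_mem (i : Fin (n + 1)) (x : ProjectiveSpectrum 𝔓) {q : L x}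
    (hq : q ∈ Twist.twistAt 𝔓 0 x) : locDer i x q ∈ Twist.twistAt 𝔓 (-1) x := by
  obtain ⟨d, e, a, s, hs, ha, hse, hdeg, rfl⟩ := exists_lfrac_of_mem_twistAt hq
  rw [locDer_lfrac i x a hs (x.asHomogeneousIdeal.toIdeal.primeCompl.mul_mem hs hs)]
  rcases hdeg with hd | rfl
  · obtain rfl : d = e := by omega
    rcases Nat.eq_zero_or_pos d with rfl | hd0
    · have h0 : ∀ b ∈ 𝔓 0, pderiv i b = 0 := fun b hb => by
        rw [(totalDegree_eq_zero_iff_eq_C (p := b)).1
          (Nat.le_zero.1 ((mem_homogeneousSubmodule _ _).1 hb).totalDegree_le), pderiv_C]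
      rw [h0 a ha, h0 s hse]
      simp only [zero_mul, mul_zero, sub_zero, lfrac, Localization.mk_zero]
      exact zero_mem _
    · refine Submodule.subset_span ⟨d + d - 1, d + d, ⟨_, ?_⟩, ⟨s * s, SetLike.mul_mem_graded hse hse⟩,
        _, by omega, rfl⟩
      have ha' : pderiv i a ∈ 𝔓 (d - 1) := ((mem_homogeneousSubmodule _ _).1 ha).pderiv
      have hs' : pderiv i s ∈ 𝔓 (d - 1) := ((mem_homogeneousSubmodule _ _).1 hse).pderiv
      refine sub_mem ?_ ?_
      · have := SetLike.mul_mem_graded ha' hse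
        rwa [show d - 1 + d = d + d - 1 by omega] at this
      · have := SetLike.mul_mem_graded ha hs'
        rwa [show d + (d - 1) = d + d - 1 by omega] at this
  · simp only [map_zero, zero_mul, sub_zero, lfrac, Localization.mk_zero]
    exact zero_mem _

/-- The value of functions at a point, a ring homomorphism. -/
def evalPt (U : (CohB1.ProjSpace n R).Opens) (x : ProjectiveSpectrum 𝔓) (hx : x ∈ U) :
    Γ(CohB1.ProjSpace n R, U) →+* L x where
  toFun r := (r.1 ⟨x, hx⟩).val
  map_one' := HomogeneousLocalization.val_one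
  map_mul' r r' := HomogeneousLocalization.val_mul _ _
  map_zero' := HomogeneousLocalization.val_zero
  map_add' r r' := HomogeneousLocalization.val_add _ _

theorem evalPt_mem (U : (CohB1.ProjSpace n R).Opens) (x : ProjectiveSpectrum 𝔓) (hx : x ∈ U)
    (r : Γ(CohB1.ProjSpace n R, U)) : evalPt U x hx r ∈ Twist.twistAt 𝔓 0 x := by
  obtain ⟨c, hc⟩ := HomogeneousLocalization.mk_surjective (r.1 ⟨x, hx⟩)
  change (r.1 ⟨x, hx⟩).val ∈ _
  rw [← hc]
  refine Submodule.subset_span ⟨c.deg, c.deg, c.num, c.den, c.den_mem, by omega, ?_⟩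
  exact HomogeneousLocalization.val_mk c

end Groth.PnEuler
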