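import Groth.Agent.PnEuler.EndOmega
import Groth.Agent.Duality.SheafHomExt
import Groth.Agent.Duality.SheafHomTwist
import Groth.Agent.PnCoh.VanishingClosed
import Groth.Agent.LocFree.Basic

/-!
# The twist `Ω(1)` on projective space
-/

set_option autoImplicit false

universe u

open CategoryTheory CategoryTheory.Limits AlgebraicGeometry Opposite TopologicalSpace
open CategoryTheory.Abelian
open Groth.PicAux

noncomputable section

attribute [local instance] HasFiniteBiproducts.of_hasFiniteProducts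

namespace Groth.PnEuler

variable {n : ℕ} {R : Type u} [CommRing R]

local notation "X₀" => CohB1.ProjSpace n R
local notation "O(" a ")" => Twist.twistProjSpace n R a

variable (n R) in
/-- `Ω(1)`. -/
abbrev omegaOne : (CohB1.ProjSpace n R).Modules :=
  CohB1.tensorMod (Omega.sheaf (CohB1.ProjSpace.toSpec n R)) (Twist.twistProjSpace n R 1)

theorem toSheaf_map_scalar (r : R) (M : (X₀).Modules) :
    (SheafOfModules.toSheaf (X₀).ringCatSheaf).map (Groth.HilbStab.scalar (scal ⊤ r) M) =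
      Coh.smulAb M (Coh.toGlobal (CohB1.ProjSpace.toSpec n R) r) := by
  ext U m
  refine (scalar_scal_app r M U.unop m).trans ?_
  rw [Coh.smulAb_app]
  exact congrArg (fun g : Γ(X₀, U.unop) => g • (show Γ(M, U.unop) from m))
    ((res_scal le_top r).symm.trans rfl)

/-- `Hom(O(-1), Ω) = 0`. -/
theorem hom_twist_omega_eq_zero
    (τ : O(-1) ⟶ Omega.sheaf (CohB1.ProjSpace.toSpec n R)) : τ = 0 := by
  choose r hr using fun l : Fin (n + 1) => exists_hom_twist_eq_scal (-1) (τ ≫ toTwist l)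
  have hS := shortExact_eulerSeq (n := n) (R := R)
  haveI : Mono (iota n R) := hS.mono_f
  have hpi : ∀ l, iota n R ≫ prj n R l = toTwist l := fun l =>
    biproduct.lift_π (f := fam n R) (fun k => toTwist (R := R) k) l
  have hrel : ∀ j : Fin (n + 1), ∑ l, scal (dOp j) (r l) * tt (R := R) j l =
      scal (dOp j) 0 * tt (R := R) j j := by
    intro j
    have h0 : (eps n R).app (dOp j) ((iota n R).app (dOp j) (τ.app (dOp j) (gg (R := R) j))) = 0 := by
      change (iota n R ≫ eps n R).app (dOp j) _ = 0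
      rw [iota_eps]
      rfl
    rw [eps_app] at h0
    have h2 : ∀ l, (prj n R l).app (dOp j) ((iota n R).app (dOp j) (τ.app (dOp j) (gg (R := R) j))) =
        scal (dOp j) (r l) • gg (R := R) j := fun l => by
      change (iota n R ≫ prj n R l).app (dOp j) (τ.app (dOp j) (gg (R := R) j)) = _
      rw [hpi]
      exact hr l _ _
    simp only [h2] at h0
    rw [tt_sum_split] at h0
    rw [map_zero, zero_mul]
    exact (gen_ee (dOp (R := R) j)).smul_inj le_rfl (by rw [Groth.PicAux.res_self, zero_smul]; exact h0)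
  refine (cancel_mono (iota n R)).1 (biproduct.hom_ext (f := fam n R) _ _ fun l => ?_)
  rw [Category.assoc, hpi, zero_comp, zero_comp]
  refine Groth.PicAux.hom_ext_cover (iSup_dOp (n := n) (R := R)) fun j V hV s => ?_
  have hcon := congrArg ((X₀).presheaf.map (homOfLE hV).op) (const_relation j l r 0 j (hrel j))
  rw [res_scal, map_zero, ite_self, map_zero] at hcon
  rw [hr l, hcon, zero_smul]
  rfl

/-- `H⁰(Ω(1)) = 0`, as morphisms from the structure sheaf. -/
theorem hom_structure_omegaOne_eq_zero (σ : Coh.structureModule X₀ ⟶ omegaOne n R) : σ = 0 := by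
  have hinv : ClSub.IsInverseOf O(-1) O(1) := isInverseOf_symm (Groth.Duality.Pn.isInverseOf_twist n R 1)
  haveI := Groth.PicAux.isEquivalence_tensorRightMod hinv
  obtain ⟨l, -⟩ := exists_leftUnitor O(-1)
  obtain ⟨as, -⟩ := exists_associator (Omega.sheaf (CohB1.ProjSpace.toSpec n R)) O(1) O(-1)
  let b : CohB1.tensorMod (omegaOne n R) O(-1) ≅ Omega.sheaf (CohB1.ProjSpace.toSpec n R) :=
    as ≪≫ PicGrp.tensorModIso (Iso.refl _) (isInverseOf_symm hinv).some ≪≫ SecTwist.unitorR _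
  refine (DCoh.tensorRightMod O(-1)).map_injective ?_
  rw [Functor.map_zero, KoszTw.tensorRightMod_map]
  have h := hom_twist_omega_eq_zero (l.inv ≫ KoszTw.tensorMap σ (𝟙 _) ≫ b.hom)
  exact (cancel_mono b.hom).1 (((cancel_epi l.inv).1 (h.trans comp_zero.symm)).trans zero_comp.symm)

/-- Endomorphisms of `Ω(1)` are constants. -/
theorem exists_eq_scalar_omegaOne (φ : omegaOne n R ⟶ omegaOne n R) :
    ∃ r : R, φ = Groth.HilbStab.scalar (scal ⊤ r) _ := by
  haveI := Groth.PicAux.isEquivalence_tensorRightMod_of_isInvertible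
    (Groth.PnCoh.isInvertible_twist n R 1)
  obtain ⟨ψ, hψ⟩ := (DCoh.tensorRightMod O(1)).map_surjective φ
  obtain ⟨r, rfl⟩ := exists_eq_scalar_omega ψ
  exact ⟨r, hψ.symm.trans (Groth.HilbStab.tensor_scalar _ _ _)⟩

theorem ext_eq_zero_of_iso [HasExt.{u} (CohB1.ProjSpace n R).Modules] {M N P : (X₀).Modules} (e : M ≅ N)
    {i : ℕ} (h : ∀ x : Ext N P i, x = 0) (x : Ext M P i) : x = 0 := by
  rw [← Ext.mk₀_id_comp x, ← e.hom_inv_id, ← Ext.mk₀_comp_mk₀, Ext.comp_assoc_of_second_deg_zero,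
    h ((Ext.mk₀ e.inv).comp x (zero_add i)), Ext.comp_zero]

theorem ext_twist_eq_zero' [HasExt.{u} (CohB1.ProjSpace n R).Modules] (a b : ℤ) (i : ℕ)
    (h : Subsingleton (Coh.HH X₀ O(b - a) i)) (x : Ext O(a) O(b) i) : x = 0 := by
  have := Groth.Duality.SheafHom.hasSheafHom O(a)
  have hP : FlatMod.IsFinLocFree O(a) := fun x =>
    let ⟨U, hx, e⟩ := LocFree.isInvertible_iff_ofRank_one.mp (Groth.PnCoh.isInvertible_twist n R a) x
    ⟨U, 1, hx, e⟩
  obtain ⟨e⟩ := Groth.Duality.SheafHom.nonempty_ext_linearEquiv R O(a) hP i O(b)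
  obtain ⟨θ⟩ := Groth.Duality.Pn.nonempty_sheafHom_twist_iso n R a b
  haveI : Subsingleton (Coh.HH X₀ ((DCoh.sheafHom O(a)).obj O(b)) i) :=
    Groth.PnCoh.subsingleton_HH_of_iso (CohB1.ProjSpace.toSpec n R) θ.symm h
  exact e.injective (Subsingleton.elim _ _)

/-- `Ext¹(Ω(1), O(-1)) = 0`. -/
theorem ext_omegaOne_eq_zero [HasExt.{u} (CohB1.ProjSpace n R).Modules]
    (x : Ext (omegaOne n R) O(-1) 1) : x = 0 := by
  have hinv := Groth.PnCoh.isInvertible_twist n R 1
  have hT := shortExact_tensorRightMod hinv (shortExact_eulerSeq (n := n) (R := R))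
  let F := DCoh.tensorRightMod O(1)
  haveI := Groth.PicAux.isEquivalence_tensorRightMod_of_isInvertible hinv
  obtain ⟨e0⟩ := Groth.Duality.Pn.nonempty_twist_tensor n R (-1) 1
  obtain ⟨e1⟩ := Groth.Duality.Pn.nonempty_twist_tensor n R 0 1
  have h3 : ∀ y : Ext (F.obj O(0)) O(-1) 2, y = 0 := fun y =>
    ext_eq_zero_of_iso e1 (fun z => ext_twist_eq_zero' _ _ 2
      (Groth.PnCoh.subsingleton_HH_twist _ 2 (by omega) (by omega)) z) y
  have hfam : ∀ y : Ext (F.obj O(-1)) O(-1) 1, y = 0 := fun y =>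
    ext_eq_zero_of_iso e0 (fun z => ext_twist_eq_zero' _ _ 1
      (Groth.PnCoh.subsingleton_HH_twist _ 1 (by omega) (by omega)) z) y
  have h2 : ∀ y : Ext (F.obj (mid n R)) O(-1) 1, y = 0 := fun y => by
    have ht : 𝟙 (F.obj (mid n R)) = ∑ i, F.map (prj n R i) ≫ F.map (inj n R i) := by
      rw [← F.map_id, ← biproduct.total (f := fam n R), Functor.map_sum]
      simp only [Functor.map_comp]
    rw [← Ext.mk₀_id_comp y, ht, Ext.mk₀_sum, Ext.sum_comp]
    refine Finset.sum_eq_zero fun i _ => ?_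
    rw [← Ext.mk₀_comp_mk₀, Ext.comp_assoc_of_second_deg_zero,
      hfam ((Ext.mk₀ (F.map (inj n R i))).comp y (zero_add _)), Ext.comp_zero]
  obtain ⟨y, rfl⟩ := Ext.contravariant_sequence_exact₁ hT O(-1) x (show 1 + 1 = 2 from rfl) (h3 _)
  rw [h2 y]
  exact Ext.comp_zero (Ext.mk₀ ((eulerSeq n R).map F).f) _ _ _ _

end Groth.PnEuler
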