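import Groth.Agent.PnEuler.Det
import Groth.Agent.PnEuler.OmegaTwist
import Groth.Agent.LocFree.Tensor

/-!
# Null-correlation presentations on projective space
-/

set_option autoImplicit false

universe u

open CategoryTheory CategoryTheory.Limits AlgebraicGeometry Opposite TopologicalSpace MvPolynomial
open Groth.Ega2Proj Groth.PicAux

noncomputable section

attribute [local instance] HasFiniteBiproducts.of_hasFiniteProducts

namespace Groth.PnEuler

variable {m : ℕ} {R : Type u} [CommRing R]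

local notation "X₀" => CohB1.ProjSpace (m + 1) R
local notation "𝔓" => CohB1.polyGrading (m + 1) R
local notation "A₀" => MvPolynomial (Fin (m + 1 + 1)) R
local notation "Ω₀" => Omega.sheaf (CohB1.ProjSpace.toSpec (m + 1) R)
local notation "O₂" => Twist.twistProjSpace (m + 1) R (-2)

/-- The generator `1 / X_j²` of `O(-2)`. -/
def g2 (j : Fin (m + 1 + 1)) : Γ(O₂, dOp j) :=
  fracGen (e := 0) (e' := 2) (SetLike.GradedOne.one_mem : (1 : A₀) ∈ 𝔓 0)
    (h := (MvPolynomial.X j : A₀) ^ 2)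
    (by simpa using SetLike.pow_mem_graded 2 (Groth.Chow.ToPn.X_mem (R := R) j))
    (n := -2) (by omega) (dOp j) fun x hx h => hx (x.isPrime.mem_of_pow_mem _ h)

theorem gen_g2 (j : Fin (m + 1 + 1)) : Gen O₂ (dOp j) (g2 (R := R) j) :=
  gen_fracGen _ _ _ _ _ fun x _ => one_notMem x

theorem val_g2 (j : Fin (m + 1 + 1)) (x : ProjectiveSpectrum 𝔓) (hx : x ∈ dOp (R := R) j) :
    val (g2 (R := R) j) x hx = lfrac 𝔓 x 1 (X_notMem hx) * lfrac 𝔓 x 1 (X_notMem hx) := by
  change Localization.mk _ _ = Localization.mk _ _ * Localization.mk _ _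
  rw [Localization.mk_mul]
  exact congrArg₂ Localization.mk (one_mul _).symm (Subtype.ext (pow_two _))

/-- Multiplication by `X_i` from `O(-2)`. -/
def mul2 (i : Fin (m + 1 + 1)) : O₂ ⟶ Twist.twistProjSpace (m + 1) R (-1) :=
  Groth.Duality.Pn.mulEl 𝔓 (Groth.Chow.ToPn.X_mem (R := R) i) (by norm_num)

theorem val_mul2 (i : Fin (m + 1 + 1)) (U : (X₀).Opens) (a : Γ(O₂, U)) (x : ProjectiveSpectrum 𝔓) (hx : x ∈ U) :
    val ((mul2 i).app U a) x hx = algebraMap A₀ (L x) (MvPolynomial.X i) * val a x hx := by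
  rw [← Localization.mk_one_eq_algebraMap]
  exact Groth.Duality.Pn.wval_mulEl 𝔓 _ _ U a x hx

theorem mul2_g2 (i j : Fin (m + 1 + 1)) :
    (mul2 (R := R) i).app (dOp j) (g2 j) = tt (R := R) j i • gg (R := R) j :=
  val_ext fun x hx => by
    rw [val_mul2, val_smul, val_g2, val_gg, evalPt_tt, ← mul_assoc, ← Localization.mk_one_eq_algebraMap]
    congr 1
    change Localization.mk _ _ * Localization.mk _ _ = _
    rw [Localization.mk_mul]
    exact congrArg₂ Localization.mk (mul_one _) (Subtype.ext (one_mul _))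

variable (σ : Fin (m + 1 + 1) → Fin (m + 1 + 1)) (s : Fin (m + 1 + 1) → ℤ)
  (hσ : ∀ i, σ (σ i) = i) (hσ' : ∀ i, σ i ≠ i) (hs : ∀ i, s (σ i) = - s i) (hu : ∀ i, s i = 1 ∨ s i = -1)

/-- `O(-2) → O(-1)^{n+1}` given by a skew form. -/
def skewMid : O₂ ⟶ mid (m + 1) R := biproduct.lift fun i => s i • mul2 (σ i)

theorem prj_skewMid (i : Fin (m + 1 + 1)) : skewMid σ s ≫ prj (m + 1) R i = s i • mul2 (R := R) (σ i) :=
  biproduct.lift_π (f := fam (m + 1) R) _ i

theorem zsmul_app {M N : (X₀).Modules} (z : ℤ) (φ : M ⟶ N) (U : (X₀).Opens) (a : Γ(M, U)) :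
    (z • φ).app U a = z • φ.app U a :=
  map_zsmul (AddMonoidHom.mk' (fun φ : M ⟶ N => φ.app U a) fun _ _ => rfl) z φ

theorem val_zsmul {d : ℤ} {U : (X₀).Opens} (z : ℤ) (a : Γ(Twist.twistProjSpace (m + 1) R d, U))
    (x : ProjectiveSpectrum 𝔓) (hx : x ∈ U) : val (z • a) x hx = z • val a x hx :=
  map_zsmul (AddMonoidHom.mk' (fun s => val s x hx) fun s t => val_add s t x hx) z a

include hσ hσ' hs in
theorem skewMid_eps : skewMid (R := R) σ s ≫ eps (m + 1) R = 0 := by
  have h := biproduct.lift_desc (f := fam (m + 1) R) (g := fun i => s i • mul2 (R := R) (σ i))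
    (h := fun i => mulX (R := R) i)
  refine h.trans (Groth.CohTwo.hom_ext_app fun U a => val_ext fun x hx => ?_)
  rw [app_sum, val_sum]
  change _ = (0 : L x)
  refine Finset.sum_involution (fun i _ => σ i) (fun i _ => ?_) (fun i _ _ => hσ' i)
    (fun i _ => Finset.mem_univ _) (fun i _ => hσ i)
  have e : ∀ i, val (((s i • mul2 (R := R) (σ i)) ≫ mulX i).app U a) x hx =
      s i • (algebraMap A₀ (L x) (MvPolynomial.X i) * (algebraMap A₀ (L x) (MvPolynomial.X (σ i)) * val a x hx)) :=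
    fun i => by
      change val ((mulX i).app U ((s i • mul2 (R := R) (σ i)).app U a)) x hx = _
      rw [val_mulX, zsmul_app, val_zsmul, val_mul2, mul_smul_comm]
  rw [e, e, hσ, hs, neg_smul, mul_left_comm (algebraMap A₀ (L x) (MvPolynomial.X (σ i)))]
  exact add_neg_cancel _

include hσ hσ' hs hu in
theorem exists_skew : ∃ v : O₂ ⟶ Ω₀, Mono v ∧ FlatMod.IsFinLocFreeOfRank m (cokernel v) := by
  have hS := shortExact_eulerSeq (n := m + 1) (R := R)
  haveI : Mono (iota (m + 1) R) := hS.mono_f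
  obtain ⟨v, hv⟩ : ∃ v : O₂ ⟶ Ω₀, v ≫ iota (m + 1) R = skewMid σ s :=
    ⟨_, hS.fIsKernel.fac (KernelFork.ofι _ (skewMid_eps σ s hσ hσ' hs)) WalkingParallelPair.zero⟩
  have hvj : ∀ j : Fin (m + 1 + 1), v.app (dOp j) (g2 j) =
      ∑ p, ((s (j.succAbove p) : Γ(X₀, dOp (R := R) j)) * tt (R := R) j (σ (j.succAbove p))) • frame j p := by
    intro j
    obtain ⟨c, hc⟩ := exists_comb j (v.app (dOp j) (g2 (R := R) j))
    have hc' : ∀ l, l ≠ j → c l = (s l : Γ(X₀, dOp (R := R) j)) * tt (R := R) j (σ l) := fun l hl => by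
      have h1 := pi_iota_comb l j c
      rw [← hc, if_neg hl.symm, zero_mul, sub_zero] at h1
      have h2 : (prj (m + 1) R l).app (dOp j) ((skewMid σ s).app (dOp j) (g2 (R := R) j)) =
          c l • gg (R := R) j := by rw [← hv]; exact h1
      change (skewMid σ s ≫ prj (m + 1) R l).app (dOp j) (g2 (R := R) j) = _ at h2
      rw [prj_skewMid, zsmul_app, mul2_g2, ← smul_assoc, zsmul_eq_mul] at h2
      exact gg_inj j h2.symm
    rw [hc, Fin.sum_univ_succAbove _ j, dOmega_tt_self, smul_zero, zero_add]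
    exact Finset.sum_congr rfl fun p _ => by rw [hc' _ (Fin.succAbove_ne j p)]; rfl
  choose p₀ hp₀ using fun j : Fin (m + 1 + 1) => Fin.exists_succAbove_eq (hσ' j)
  have hunit : ∀ j, IsUnit ((s (j.succAbove (p₀ j)) : Γ(X₀, dOp (R := R) j)) *
      tt (R := R) j (σ (j.succAbove (p₀ j)))) := fun j => by
    rw [hp₀, hσ, tt_self, mul_one]
    rcases hu (σ j) with h | h <;> simp [h]
  haveI : (O₂).IsQuasicoherent := isQCoh_twist_proj _
  have hmono : Mono v := by
    refine Groth.OmegaSheaf.mono_of_affine_cover _ fun x => ?_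
    obtain ⟨j, hj⟩ := exists_mem_dOp (R := R) (x : ProjectiveSpectrum 𝔓)
    refine ⟨dOp j, isAffineOpen_dOp j, hj, (injective_iff_map_eq_zero _).2 fun a ha => ?_⟩
    obtain ⟨r, rfl⟩ := (gen_g2 (R := R) j).exists_coeff le_rfl a
    rw [res_self, Scheme.Modules.Hom.app_smul, hvj, Finset.smul_sum] at ha
    simp only [smul_smul] at ha
    have h1 := congrFun ((bijective_frame j).1 (ha.trans (by simp :
      (0 : Γ(Ω₀, dOp (R := R) j)) = ∑ p, (0 : Fin (m + 1) → Γ(X₀, dOp (R := R) j)) p • frame j p))) (p₀ j)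
    rw [Pi.zero_apply, (hunit j).mul_left_eq_zero] at h1
    rw [h1, zero_smul]
  refine ⟨v, hmono, ?_⟩
  haveI : (cokernel v).IsQuasicoherent := Groth.QCohMod.isQCoh_cokernel v
  intro x
  obtain ⟨j, hj⟩ := exists_mem_dOp (R := R) (x : ProjectiveSpectrum 𝔓)
  let a := fun p => (s (j.succAbove p) : Γ(X₀, dOp (R := R) j)) * tt (R := R) j (σ (j.succAbove p))
  let t : Fin m → Γ(cokernel v, dOp (R := R) j) := fun q =>
    (cokernel.π v).app (dOp j) (frame j ((p₀ j).succAbove q))
  have hins : ∀ c : Fin m → Γ(X₀, dOp (R := R) j),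
      ∑ q, c q • t q = (cokernel.π v).app (dOp j) (∑ p, (Fin.insertNth (α := fun _ => Γ(X₀, dOp (R := R) j)) (p₀ j) 0 c) p • frame j p) := fun c => by
    rw [Fin.sum_univ_succAbove _ (p₀ j), Fin.insertNth_apply_same, zero_smul, zero_add, map_sum]
    simp only [Fin.insertNth_apply_succAbove, Scheme.Modules.Hom.app_smul, t]
  have hbij : Function.Bijective fun c : Fin m → Γ(X₀, dOp (R := R) j) => ∑ q, c q • t q := by
    refine ⟨fun c c' h => funext fun q => ?_, fun z => ?_⟩
    · simp only [hins] at h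
      have h0 : (cokernel.π v).app (dOp j) (∑ p, ((Fin.insertNth (α := fun _ => Γ(X₀, dOp (R := R) j)) (p₀ j) 0 c) p - (Fin.insertNth (α := fun _ => Γ(X₀, dOp (R := R) j)) (p₀ j) 0 c') p) •
          frame j p) = 0 := by
        simp only [sub_smul, Finset.sum_sub_distrib, map_sub, h, sub_self]
      obtain ⟨y, hy⟩ := Groth.QCohMod.exists_app_eq_of_mono_exact
        (S := ShortComplex.mk v (cokernel.π v) (cokernel.condition v))
        (ShortComplex.exact_of_g_is_cokernel _ (cokernelIsCokernel v)) (dOp j) _ h0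
      obtain ⟨r, rfl⟩ := (gen_g2 (R := R) j).exists_coeff le_rfl y
      change v.app (dOp j) _ = _ at hy
      rw [res_self, Scheme.Modules.Hom.app_smul, hvj, Finset.smul_sum] at hy
      simp only [smul_smul] at hy
      have h1 := (bijective_frame j).1 hy
      have h2 := congrFun h1 (p₀ j)
      simp only [Fin.insertNth_apply_same, sub_self] at h2
      rw [(hunit j).mul_left_eq_zero] at h2
      have h3 := congrFun h1 ((p₀ j).succAbove q)
      simp only [Fin.insertNth_apply_succAbove, h2, zero_mul] at h3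
      exact sub_eq_zero.1 h3.symm
    · obtain ⟨w, rfl⟩ := Groth.QCohMod.app_surjective_of_epi (cokernel.π v) (isAffineOpen_dOp j) z
      obtain ⟨d, rfl⟩ := (bijective_frame j).2 w
      let k₀ := d (p₀ j) * ↑(hunit j).unit⁻¹
      refine ⟨fun q => d ((p₀ j).succAbove q) - k₀ * a ((p₀ j).succAbove q), ?_⟩
      have h0 : (cokernel.π v).app (dOp j) (v.app (dOp j) (k₀ • g2 (R := R) j)) = 0 := by
        change (v ≫ cokernel.π v).app (dOp j) _ = 0
        rw [cokernel.condition]
        rfl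
      rw [Scheme.Modules.Hom.app_smul, hvj, Finset.smul_sum] at h0
      simp only [smul_smul] at h0
      beta_reduce
      rw [hins]
      refine Eq.trans ?_ ((congrArg (fun w => (cokernel.π v).app (dOp j) (∑ p, d p • frame j p) - w) h0).trans
        (sub_zero _))
      rw [← map_sub, ← Finset.sum_sub_distrib]
      refine congrArg _ (Finset.sum_congr rfl fun p _ => ?_)
      rw [← sub_smul]
      congr 1
      rcases Fin.eq_self_or_eq_succAbove (p₀ j) p with rfl | ⟨q, rfl⟩
      · rw [Fin.insertNth_apply_same]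
        change 0 = d (p₀ j) - d (p₀ j) * ↑(hunit j).unit⁻¹ * _
        rw [mul_assoc, IsUnit.val_inv_mul, mul_one, sub_self]
      · rw [Fin.insertNth_apply_succAbove]
  obtain ⟨e⟩ := Groth.LocFree.nonempty_iso_of_basis
    (Groth.KTheory.LocFree.basis'_of_affine (isAffineOpen_dOp (R := R) j) t hbij)
  exact ⟨dOp j, hj, ⟨e⟩⟩

include hσ hσ' hs hu in
theorem exists_nullCorrelation :
    ∃ u : Twist.twistProjSpace (m + 1) R (-1) ⟶ omegaOne (m + 1) R,
      Mono u ∧ FlatMod.IsFinLocFreeOfRank m (cokernel u) := by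
  obtain ⟨v, hv, hM⟩ := exists_skew (R := R) σ s hσ hσ' hs hu
  have hinv := Groth.PnCoh.isInvertible_twist (m + 1) R 1
  haveI := Groth.PicAux.isEquivalence_tensorRightMod_of_isInvertible hinv
  haveI := hv
  obtain ⟨e⟩ := Groth.Duality.Pn.nonempty_twist_tensor (m + 1) R (-2) 1
  let O₁ := Twist.twistProjSpace (m + 1) R 1
  let e' : Twist.twistProjSpace (m + 1) R (-1) ≅ CohB1.tensorMod O₂ O₁ :=
    eqToIso (congrArg (Twist.twistProjSpace (m + 1) R) (show (-1 : ℤ) = -2 + 1 by norm_num)) ≪≫ e.symm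
  let w : CohB1.tensorMod O₂ O₁ ⟶ omegaOne (m + 1) R := KoszTw.tensorMap v (𝟙 O₁)
  have hw : (DCoh.tensorRightMod O₁).map v = w := KoszTw.tensorRightMod_map v O₁
  have hT : Mono ((DCoh.tensorRightMod O₁).map v) := Functor.map_mono _ v
  have hwm : Mono w := hw ▸ hT
  have hc : Nonempty ((DCoh.tensorRightMod O₁).obj (cokernel v) ≅ cokernel w) :=
    ⟨PreservesCokernel.iso (DCoh.tensorRightMod O₁) v ≪≫ cokernelIsoOfEq hw⟩
  obtain ⟨ec⟩ := hc
  refine ⟨e'.hom ≫ w, mono_comp _ _, ?_⟩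
  refine Groth.LocFree.isFinLocFreeOfRank_of_iso (ec ≪≫ (cokernelEpiComp e'.hom w).symm) ?_
  have h := Groth.LocFree.isFinLocFreeOfRank_tensorMod hM (Groth.LocFree.isInvertible_iff_ofRank_one.1 hinv)
  rwa [mul_one] at h

end Groth.PnEuler
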