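import Groth.Agent.S11506
import Groth.Agent.S2821
import Groth.Agent.LocFree.ExtFunctor
import Groth.Agent.RefRank.Rank1
import Groth.Agent.RefRank.RefPowLoc
import Groth.Agent.Duality.PnStalk
import Groth.Agent.PicAux.ProjBundlePic
import Groth.Agent.Ega2Proj.TensorGen
import Groth.Agent.PnEuler.OmegaTwist

/-!
# Endomorphisms of rank two bundles

On an integral scheme with factorial local rings the kernel of a nonzero non-injective endomorphism
of a plane bundle is invertible; on projective space endomorphisms satisfy a quadratic equation with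
constant coefficients.
-/

set_option autoImplicit false

universe u

open CategoryTheory CategoryTheory.Limits AlgebraicGeometry Opposite TopologicalSpace
open Groth.PicAux Groth.LocFree Groth.Agent.S11506

namespace Groth.RankTwo

/-- The kernel of a nonzero non-injective endomorphism of a free module of rank two over a factorial
domain is free of rank one. -/
theorem exists_ker_generator {R : Type*} [CommRing R] [IsDomain R] [UniqueFactorizationMonoid R]
    {M : Type*} [AddCommGroup M] [Module R M] (B : Module.Basis (Fin 2) R M) (f : M →ₗ[R] M)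
    (hf : f ≠ 0) (hk : ∃ v, v ≠ 0 ∧ f v = 0) :
    ∃ w, f w = 0 ∧ (∀ a : R, a • w = 0 → a = 0) ∧ ∀ v, f v = 0 → ∃ r : R, v = r • w := by
  obtain ⟨j, i, hji⟩ : ∃ j i, B.repr (f (B j)) i ≠ 0 := by
    by_contra! h
    exact hf (B.ext fun j => B.repr.injective (Finsupp.ext fun i => by simp [h j i]))
  let B' := B.reindex (Equiv.swap j 0)
  let ℓ : M →ₗ[R] R := (B.coord i).comp f
  have hB'0 : B' 0 = B j := by simp [B', Module.Basis.reindex_apply]
  have ha : ℓ (B' 0) ≠ 0 := by rw [hB'0]; exact hji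
  obtain ⟨a', b', c', hab, ha', hb'⟩ :=
    UniqueFactorizationMonoid.exists_reduced_factors (ℓ (B' 0)) ha (ℓ (B' 1))
  have ha0 : a' ≠ 0 := fun h => ha (by rw [← ha', h, mul_zero])
  have hc0 : c' ≠ 0 := fun h => ha (by rw [← ha', h, zero_mul])
  let w := b' • B' 0 - a' • B' 1
  have hdec : ∀ v, v = B'.repr v 0 • B' 0 + B'.repr v 1 • B' 1 := fun v => by
    conv_lhs => rw [← B'.sum_repr v, Fin.sum_univ_two]
  have hspan : ∀ v, f v = 0 → ∃ r : R, v = r • w := fun v hv => by
    have h0 : ℓ v = 0 := by simp [ℓ, hv]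
    rw [hdec v, map_add, map_smul, map_smul, smul_eq_mul, smul_eq_mul, ← ha', ← hb'] at h0
    set x := B'.repr v 0
    set y := B'.repr v 1
    have h1 : x * a' + y * b' = 0 :=
      mul_left_cancel₀ hc0 (by rw [mul_zero]; linear_combination h0)
    obtain ⟨t, ht⟩ : a' ∣ y := hab.dvd_of_dvd_mul_right ⟨-x, by linear_combination h1⟩
    have hx : x = -t * b' :=
      mul_left_cancel₀ ha0 (by linear_combination h1 - b' * ht)
    refine ⟨-t, ?_⟩
    rw [hdec v]
    change x • B' 0 + y • B' 1 = _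
    rw [hx, ht]
    simp only [w]
    module
  have hw : ∀ a : R, a • w = 0 → a = 0 := fun a h => by
    have h1 := congrArg (fun z => B'.repr z 1) h
    simpa [w, ha0] using h1
  obtain ⟨v, hv0, hv⟩ := hk
  obtain ⟨r, hr⟩ := hspan v hv
  have hr0 : r ≠ 0 := fun h => hv0 (by rw [hr, h, zero_smul])
  refine ⟨w, B.repr.injective (Finsupp.ext fun l => ?_), hw, hspan⟩
  have h1 := congrArg (fun z => B.repr z l) (show r • f w = 0 by rw [← map_smul, ← hr, hv])
  simpa [hr0] using h1

variable {X : Scheme.{u}} {E F N : X.Modules}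

section Integral

variable [IsIntegral X]

/-- Sections of a free module vanishing on a nonempty open vanish. -/
theorem eq_zero_of_res {U W V : X.Opens} {n : ℕ} {s : Fin n → Γ(E, U)} (hs : Basis' E U s)
    (hWV : W ≤ V) (hVU : V ≤ U) [Nonempty W] {a : Γ(E, V)} (ha : res E hWV a = 0) : a = 0 := by
  obtain ⟨c, hc⟩ := (hs V hVU).2 a
  dsimp only at hc
  subst hc
  rw [res_sum] at ha
  simp only [res_smul, res_res] at ha
  have h0 : (fun i => resX X hWV (c i)) = 0 :=
    (hs W (hWV.trans hVU)).1 (ha.trans (by simp))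
  refine Finset.sum_eq_zero fun i _ => ?_
  have hi : c i = 0 := by
    refine map_injective_of_isIntegral X (homOfLE hWV) ?_
    rw [map_zero]
    exact congrFun h0 i
  rw [hi, zero_smul]

/-- A nonzero morphism of finite locally free modules is nonzero on every stalk. -/
theorem stalk_ne_zero {m n : ℕ} (hF : FlatMod.IsFinLocFreeOfRank m F)
    (hE : FlatMod.IsFinLocFreeOfRank n E) {φ : F ⟶ E} (hφ : φ ≠ 0) (x : X) :
    RefHull.stalkMapₗ φ x ≠ 0 := by
  intro h0
  obtain ⟨U, s, hxU, hs⟩ := isFinLocFreeOfRank_iff.1 hF x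
  obtain ⟨U', s', hxU', hs'⟩ := isFinLocFreeOfRank_iff.1 hE x
  let V := U ⊓ U'
  have hxV : x ∈ V := ⟨hxU, hxU'⟩
  have hj : ∀ j, φ.app V (res F inf_le_left (s j)) = 0 := fun j => by
    have h1 : E.presheaf.germ V x hxV (φ.app V (res F inf_le_left (s j))) = 0 := by
      have h2 := LinearMap.congr_fun h0 (F.presheaf.germ V x hxV (res F inf_le_left (s j)))
      erw [RefHull.stalkMapₗ_germ] at h2
      exact h2
    obtain ⟨W, hxW, i₁, i₂, hres⟩ := TopCat.Presheaf.germ_eq E.presheaf x hxV hxV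
      (φ.app V (res F inf_le_left (s j))) 0 (h1.trans (map_zero _).symm)
    haveI : Nonempty W := ⟨⟨x, hxW⟩⟩
    exact eq_zero_of_res hs' i₁.le inf_le_right (hres.trans (map_zero _))
  have hV : ∀ (W : X.Opens) (hW : W ≤ V) (e : Γ(F, W)), φ.app W e = 0 := fun W hW e => by
    obtain ⟨c, rfl⟩ := (hs W (hW.trans inf_le_left)).2 e
    dsimp only
    rw [map_sum]
    refine Finset.sum_eq_zero fun j _ => ?_
    rw [Scheme.Modules.Hom.app_smul, ← res_res (inf_le_left : V ≤ U) hW, app_res, hj, res_zero,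
      smul_zero]
  choose U₁ t hU₁ ht using fun y : X => isFinLocFreeOfRank_iff.1 hE y
  have hcov : iSup U₁ = ⊤ := eq_top_iff.2 fun y _ => Opens.mem_iSup.2 ⟨y, hU₁ y⟩
  refine hφ (hom_ext_cover hcov fun y V' hV' e => ?_)
  change φ.app V' e = 0
  rcases Set.eq_empty_or_nonempty (V' : Set X) with hem | hne
  · exact res_ext (ι := PEmpty.{1}) (fun z => z.elim) (fun z => z.elim)
      (fun z hz => (Set.eq_empty_iff_forall_notMem.1 hem z hz).elim) fun z => z.elim
  · have : Nonempty (V' ⊓ V : X.Opens) :=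
      (nonempty_preirreducible_inter V'.2 V.2 hne ⟨x, hxV⟩).to_subtype
    refine eq_zero_of_res (ht y) (inf_le_left : V' ⊓ V ≤ V') hV' ?_
    rw [← app_res]
    exact hV _ inf_le_right _

/-- A nonzero map from an invertible module to a bundle is a monomorphism. -/
theorem mono_of_ne_zero {n : ℕ} (hN : PicF.IsInvertible N) (hE : FlatMod.IsFinLocFreeOfRank n E)
    {σ : N ⟶ E} (hσ : σ ≠ 0) : Mono σ := by
  refine (CohTwo.mono_iff_app_injective σ).2 fun U => (injective_iff_map_eq_zero _).2 fun m hm => ?_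
  choose Ug g hxg hg using fun x : X => (isInvertible_iff_exists_gen N).1 hN x
  choose Us s hxs hs using fun x : X => isFinLocFreeOfRank_iff.1 hE x
  have hcov : iSup (fun x => Ug x ⊓ Us x) = ⊤ :=
    eq_top_iff.2 fun x _ => Opens.mem_iSup.2 ⟨x, hxg x, hxs x⟩
  refine res_ext (fun x => U ⊓ (Ug x ⊓ Us x)) (fun _ => inf_le_left) (le_iSup_inf hcov U) fun x => ?_
  rw [res_zero]
  set V := U ⊓ (Ug x ⊓ Us x)
  rcases Set.eq_empty_or_nonempty (V : Set X) with hem | ⟨y, hy⟩
  · exact res_ext (ι := PEmpty.{1}) (fun z => z.elim) (fun z => z.elim)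
      (fun z hz => (Set.eq_empty_iff_forall_notMem.1 hem z hz).elim) fun z => z.elim
  have hVg : V ≤ Ug x := inf_le_right.trans inf_le_left
  haveI : Nonempty V := ⟨⟨y, hy⟩⟩
  obtain ⟨r, hr⟩ := (hg x).exists_coeff hVg (res N inf_le_left m)
  have h1 : r • σ.app V (res N hVg (g x)) = 0 := by
    rw [← Scheme.Modules.Hom.app_smul, ← hr, app_res, hm, res_zero]
  let B := basisOfBasis' (hs x) (inf_le_right.trans inf_le_right : V ≤ Us x)
  rcases eq_or_ne (σ.app V (res N hVg (g x))) 0 with h0 | h0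
  · refine absurd (LinearMap.ext fun v => ?_)
      (stalk_ne_zero (isInvertible_iff_ofRank_one.1 hN) hE hσ y)
    obtain ⟨a, rfl⟩ := (Groth.RefRank.isStalkBasis_germ_of_gen ((hg x).res hVg) hy).2 v
    dsimp only
    rw [map_smul, LinearMap.zero_apply]
    erw [RefHull.stalkMapₗ_germ, h0, map_zero, smul_zero]
  · have hr0 : r = 0 := by
      by_contra hne
      refine h0 (B.repr.injective ?_)
      have h3 := congrArg B.repr h1
      rw [map_smul, map_zero] at h3
      rw [map_zero]
      exact (smul_eq_zero.1 h3).resolve_left hne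
    rw [hr, hr0, zero_smul]

/-- On an integral scheme with factorial local rings, the kernel of a nonzero endomorphism of a plane
bundle killing a nonzero endomorphism is invertible. -/
theorem isInvertible_kernel [IsLocallyNoetherian X]
    [∀ x : X, UniqueFactorizationMonoid (X.presheaf.stalk x)]
    (hE : FlatMod.IsFinLocFreeOfRank 2 E) {ψ χ : E ⟶ E} (hψ : ψ ≠ 0) (hχ : χ ≠ 0)
    (h : ψ ≫ χ = 0) : PicF.IsInvertible (kernel χ) := by
  have hEc := KTheory.LocFree.isCoh (isFinLocFree_of_rank hE)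
  haveI := hEc.1
  have hK := Groth.QCohMod.isCoh_kernel χ hEc
  refine (isInvertible_iff_exists_gen _).2 fun x => ?_
  obtain ⟨U, s, hxU, hs⟩ := isFinLocFreeOfRank_iff.1 hE x
  obtain ⟨B⟩ := nonempty_stalk_basis hs hxU
  have h0 : ∀ v, RefHull.stalkMapₗ χ x (RefHull.stalkMapₗ ψ x v) = 0 := fun v => by
    rw [← Groth.RefRank.stalkMapₗ_comp, h]
    obtain ⟨W, hW, m, rfl⟩ := TopCat.Presheaf.exists_germ_eq E.presheaf v
    erw [RefHull.stalkMapₗ_germ]
    exact map_zero _
  obtain ⟨v, hv⟩ : ∃ v, RefHull.stalkMapₗ ψ x v ≠ 0 := by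
    by_contra! h1
    exact stalk_ne_zero hE hE hψ x (LinearMap.ext h1)
  obtain ⟨w, hw, hw', hspan⟩ := exists_ker_generator B _ (stalk_ne_zero hE hE hχ x) ⟨_, hv, h0 v⟩
  have hinj : Function.Injective (RefHull.stalkMapₗ (kernel.ι χ) x) :=
    (Groth.QCohMod.mono_iff_stalk (kernel.ι χ)).1 inferInstance x
  have hex : (ShortComplex.mk (kernel.ι χ) χ (kernel.condition χ)).Exact :=
    ShortComplex.exact_of_f_is_kernel _ (kernelIsKernel χ)
  obtain ⟨t, ht⟩ : ∃ t, RefHull.stalkMapₗ (kernel.ι χ) x t = w :=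
    (ShortComplex.ab_exact_iff _).1 ((Groth.QCohMod.exact_iff_stalk _).1 hex x) w hw
  refine (Groth.RefRank.exists_gen_of_isStalkBasis hK (x₀ := x) (w := t) ⟨?_, ?_⟩).imp
    fun _ ⟨s, hs⟩ => ⟨s, hs⟩
  · intro a b hab
    refine sub_eq_zero.1 (hw' _ ?_)
    rw [← ht, ← map_smul, sub_smul, sub_eq_zero.2 hab, map_zero]
  · intro u
    have hu : RefHull.stalkMapₗ χ x (RefHull.stalkMapₗ (kernel.ι χ) x u) = 0 := by
      rw [← Groth.RefRank.stalkMapₗ_comp, kernel.condition]
      obtain ⟨W, hW, m, rfl⟩ := TopCat.Presheaf.exists_germ_eq (kernel χ).presheaf u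
      erw [RefHull.stalkMapₗ_germ]
      exact map_zero _
    obtain ⟨r, hr⟩ := hspan _ hu
    refine ⟨r, hinj ?_⟩
    dsimp only
    rw [map_smul, ht, hr]

end Integral

section Wedge

variable (f : E ⟶ N)

/-- `a ∧ b ↦ a ⊗ f b - b ⊗ f a`. -/
noncomputable def crossAlt (U : X.Opens) :
    Γ(E, U) [⋀^Fin 2]→ₗ[Γ(X, U)] Γ(CohB1.tensorMod E N, U) where
  toFun e := tmulSec (e 0) (f.app U (e 1)) - tmulSec (e 1) (f.app U (e 0))
  map_update_add' e i a b := by
    fin_cases i <;>
      simp [Function.update, tmulSec_add_left, tmulSec_add_right, map_add] <;> abel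
  map_update_smul' e i r a := by
    fin_cases i <;>
      simp [Function.update, tmulSec_smul_left, tmulSec_smul_right, smul_sub]
  map_eq_zero_of_eq' e i j hij hne := by
    fin_cases i <;> fin_cases j <;> simp_all

/-- The map `⋀²E ⟶ E ⊗ N` of a map `E ⟶ N`. -/
noncomputable def cross : extPow 2 E ⟶ CohB1.tensorMod E N :=
  extLift 2 E (crossAlt f) fun U V h e => by
    change res _ h (tmulSec _ _ - tmulSec _ _) = tmulSec _ _ - tmulSec _ _
    rw [show ∀ a b, res (CohB1.tensorMod E N) h (a - b) = res _ h a - res _ h b from map_sub _, res_tmulSec, res_tmulSec, app_res, app_res]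

theorem cross_wdg (U : X.Opens) (a b : Γ(E, U)) :
    (cross f).app U (wdg U a b) = tmulSec a (f.app U b) - tmulSec b (f.app U a) :=
  extLift_wedge 2 E _ _ U ![a, b]

theorem cross_ne_zero [IsIntegral X] (hN : PicF.IsInvertible N)
    (hE : FlatMod.IsFinLocFreeOfRank 2 E) (hf : f ≠ 0) : cross f ≠ 0 := by
  intro h0
  obtain ⟨x⟩ := (inferInstance : Nonempty X)
  obtain ⟨U, s, hxU, hs⟩ := isFinLocFreeOfRank_iff.1 hE x
  obtain ⟨U', g, hxU', hg⟩ := (isInvertible_iff_exists_gen N).1 hN x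
  let V := U ⊓ U'
  let B := basisOfBasis' hs (inf_le_left : V ≤ U)
  obtain ⟨r₀, hr₀⟩ := hg.exists_coeff (inf_le_right : V ≤ U') (f.app V (B 0))
  obtain ⟨r₁, hr₁⟩ := hg.exists_coeff (inf_le_right : V ≤ U') (f.app V (B 1))
  have h1 := cross_wdg f V (B 0) (B 1)
  rw [h0, hr₀, hr₁, tmulSec_smul_right, tmulSec_smul_right, ← tmulSec_smul_left,
    ← tmulSec_smul_left] at h1
  have h2 : r₁ • B 0 = r₀ • B 1 :=
    (Groth.Ega2Proj.tmulSec_bijective (M := E) (inf_le_right : V ≤ U') hg).1
      (sub_eq_zero.1 h1.symm)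
  have h3 := congrArg (fun z => B.repr z 0) h2
  have h4 := congrArg (fun z => B.repr z 1) h2
  simp at h3 h4
  have hfB : ∀ j, f.app V (B j) = 0 := fun j => by
    fin_cases j
    · rw [Fin.zero_eta, hr₀, ← h4, zero_smul]
    · rw [Fin.mk_one, hr₁, h3, zero_smul]
  refine stalk_ne_zero hE (isInvertible_iff_ofRank_one.1 hN) hf x (LinearMap.ext fun v => ?_)
  haveI := KTheory.LocFree.isQCoh (isFinLocFree_of_rank hE)
  obtain ⟨W, hxW, m, rfl⟩ := TopCat.Presheaf.exists_germ_eq E.presheaf v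
  rw [LinearMap.zero_apply]
  erw [RefHull.stalkMapₗ_germ]
  rw [← N.presheaf.germ_res_apply (homOfLE (inf_le_left : W ⊓ V ≤ W)) x ⟨hxW, hxU, hxU'⟩]
  change N.presheaf.germ (W ⊓ V) x _ (res N inf_le_left (f.app W m)) = 0
  obtain ⟨c, hc⟩ := (hs (W ⊓ V) (inf_le_right.trans inf_le_left)).2 (res E inf_le_left m)
  dsimp only at hc
  rw [← app_res, ← hc, map_sum]
  refine (congrArg _ (Finset.sum_eq_zero fun j _ => ?_)).trans (map_zero _)
  have h5 : res E (inf_le_right : W ⊓ V ≤ V) (B j) = res E (inf_le_right.trans inf_le_left) (s j) := by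
    rw [show B j = res E (inf_le_left : V ≤ U) (s j) from by simp [B, basisOfBasis']]
    exact res_res _ _ _
  rw [Scheme.Modules.Hom.app_smul, ← h5, app_res, hfB, res_zero, smul_zero]

end Wedge

end Groth.RankTwo
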