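import Mathlib.LinearAlgebra.Dual.Lemmas
import Mathlib.RingTheory.Finiteness.Nakayama
import Mathlib.RingTheory.Ideal.Quotient.Basic
import Mathlib.Algebra.CharZero.Defs
import Mathlib

/-!
# The Wronskian pairing on binary forms

For `x, y ∈ κ^{n+1}`, seen as polynomials of degree `≤ n`, the coefficients of `x y' - x' y` vanish
only if the polynomials are proportional.
-/

set_option autoImplicit false

universe u

namespace Groth.Tango

variable {n : ℕ}

/-- Whether `e_l` occurs in the `t`-th Wronskian coefficient. -/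
def Valid (t l : ℕ) (n : ℕ) : Prop := l ≤ t + 1 ∧ t + 1 ≤ n + l

instance (t l n : ℕ) : Decidable (Valid t l n) := inferInstanceAs (Decidable (_ ∧ _))

/-- The coefficient of `x_{t+1-l} y_l` in the `t`-th Wronskian coefficient. -/
def cf (t : ℕ) (l : Fin (n + 1)) : ℤ :=
  if Valid t l n then 2 * (l : ℤ) - ((t : ℤ) + 1) else 0

/-- The index `t + 1 - l`. -/
def ix (t : ℕ) (l : Fin (n + 1)) : Fin (n + 1) := ⟨min (t + 1 - l) n, by omega⟩

theorem ix_val {t : ℕ} {l : Fin (n + 1)} (h : Valid t l n) : (ix t l : ℕ) = t + 1 - l := by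
  have := l.isLt
  simp only [ix, Valid] at *
  omega

theorem valid_ix {t : ℕ} {l : Fin (n + 1)} (h : Valid t l n) : Valid t (ix t l) n := by
  have := l.isLt
  have := ix_val h
  simp only [Valid] at *
  omega

/-- The Wronskian of a polynomial with itself vanishes. -/
theorem sum_cf_self {A : Type*} [CommRing A] (t : ℕ) (x : Fin (n + 1) → A) :
    ∑ l, cf t l • (x (ix t l) * x l) = 0 := by
  let g : Fin (n + 1) → Fin (n + 1) := fun l => if Valid t l n then ix t l else l
  refine Finset.sum_involution (fun l _ => g l) (fun l _ => ?_) (fun l _ hl h => ?_)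
    (fun l _ => Finset.mem_univ _) (fun l _ => ?_)
  · by_cases h : Valid t l n
    · have h1 := valid_ix h
      have h2 : ix t (ix t l) = l := Fin.ext (by rw [ix_val h1, ix_val h]; simp only [Valid] at h; omega)
      have h3 : cf t (ix t l) = - cf t l := by
        simp only [cf, if_pos h, if_pos h1]
        have := ix_val h
        simp only [Valid] at h
        omega
      simp only [g, if_pos h, h2, h3, neg_smul]
      rw [mul_comm (x l), add_neg_cancel]
    · simp [cf, g, h]
  · by_cases hv : Valid t l n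
    · refine hl ?_
      simp only [g, if_pos hv] at h
      have := ix_val hv
      rw [h] at this
      simp only [cf, if_pos hv]
      simp only [Valid] at hv
      rw [show (2 * (l : ℤ) - ((t : ℤ) + 1)) = 0 by omega, zero_smul]
    · exact hl (by simp [cf, hv])
  · by_cases h : Valid t l n
    · simp only [g, if_pos h, if_pos (valid_ix h)]
      exact Fin.ext (by rw [ix_val (valid_ix h), ix_val h]; simp only [Valid] at h; omega)
    · simp [g, h]

/-- Polynomials with vanishing Wronskian are proportional. -/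
theorem eq_zero_of_wronskian {κ : Type*} [Field κ] [CharZero κ] {N : ℕ} (hN : 2 * n ≤ N + 1)
    (x y : Fin (n + 1) → κ) (j : Fin (n + 1)) (hxj : x j = 1) (hyj : y j = 0)
    (h : ∀ t : Fin N, ∑ l, (cf t l : κ) * (x (ix t l) * y l) = 0) : y = 0 := by
  classical
  obtain ⟨a, hxa, hamin⟩ : ∃ a, x a ≠ 0 ∧ ∀ i, i < a → x i = 0 := by
    have hne : (Finset.univ.filter fun i => x i ≠ 0).Nonempty :=
      ⟨j, Finset.mem_filter.2 ⟨Finset.mem_univ _, by simp [hxj]⟩⟩
    refine ⟨(Finset.univ.filter fun i => x i ≠ 0).min' hne,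
      (Finset.mem_filter.1 (Finset.min'_mem _ hne)).2, fun i hi => ?_⟩
    by_contra hx
    exact absurd (Finset.min'_le _ i (Finset.mem_filter.2 ⟨Finset.mem_univ _, hx⟩)) (not_le.2 hi)
  set c := y a / x a
  let z : Fin (n + 1) → κ := fun l => y l - c * x l
  have hza : z a = 0 := by simp [z, c, hxa]
  have hz : ∀ t : Fin N, ∑ l, (cf t l : κ) * (x (ix t l) * z l) = 0 := fun t => by
    have h1 := sum_cf_self (t : ℕ) x
    simp only [zsmul_eq_mul] at h1
    calc ∑ l, (cf t l : κ) * (x (ix t l) * z l)
        = ∑ l, (cf t l : κ) * (x (ix t l) * y l) - c * ∑ l, (cf t l : κ) * (x (ix t l) * x l) := by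
          rw [Finset.mul_sum, ← Finset.sum_sub_distrib]
          exact Finset.sum_congr rfl fun l _ => by simp only [z]; ring
      _ = 0 := by rw [h t, h1, mul_zero, sub_zero]
  have hz0 : z = 0 := by
    by_contra hne
    obtain ⟨b₀, hb₀⟩ := Function.ne_iff.1 hne
    have hne' : (Finset.univ.filter fun i => z i ≠ 0).Nonempty :=
      ⟨b₀, Finset.mem_filter.2 ⟨Finset.mem_univ _, hb₀⟩⟩
    set b := (Finset.univ.filter fun i => z i ≠ 0).min' hne'
    have hzb : z b ≠ 0 := (Finset.mem_filter.1 (Finset.min'_mem _ hne')).2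
    have hbmin : ∀ i, i < b → z i = 0 := fun i hi => by
      by_contra hx
      exact absurd (Finset.min'_le _ i (Finset.mem_filter.2 ⟨Finset.mem_univ _, hx⟩)) (not_le.2 hi)
    have hab : (a : ℕ) ≠ b := fun e => hzb (by rw [← Fin.ext e, hza])
    have ha := a.isLt
    have hb := b.isLt
    let t : Fin N := ⟨(a : ℕ) + b - 1, by omega⟩
    have hv : Valid t b n := by simp only [Valid, t]; omega
    have h1 := hz t
    rw [Finset.sum_eq_single b (fun l _ hl => ?_) (fun h => absurd (Finset.mem_univ _) h)] at h1
    · have hixb : ix (t : ℕ) b = a := Fin.ext (by rw [ix_val hv]; simp only [t]; omega)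
      have hc : (cf (t : ℕ) b : κ) ≠ 0 := by
        simp only [cf, if_pos hv]
        exact_mod_cast (show (2 * (b : ℤ) - (((t : ℕ) : ℤ) + 1)) ≠ 0 by simp only [t]; omega)
      rw [hixb] at h1
      exact (mul_ne_zero hc (mul_ne_zero hxa hzb)) h1
    · rcases lt_or_gt_of_ne hl with hlt | hlt
      · simp [hbmin l hlt]
      · by_cases hvl : Valid t l n
        · rw [hamin (ix (t : ℕ) l) (Fin.lt_def.2 ?_), zero_mul, mul_zero]
          rw [ix_val hvl]
          have := Fin.lt_def.1 hlt
          simp only [Valid, t] at hvl ⊢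
          omega
        · simp [cf, hvl]
  have hy : ∀ l, y l = c * x l := fun l => sub_eq_zero.1 (congrFun hz0 l)
  have hc : c = 0 := by simpa [hxj, hyj] using (hy j).symm
  funext l
  simp [hy l, hc]

/-- Surjectivity of a linear map between free modules from surjectivity at all closed points. -/
theorem surjective_of_forall_maximal {A : Type u} [CommRing A] {r q : ℕ}
    (f : (Fin r → A) →ₗ[A] (Fin q → A))
    (h : ∀ p : Ideal A, p.IsMaximal → ∀ y : Fin q → A ⧸ p,
      (∀ t, ∑ i, Ideal.Quotient.mk p (f (Pi.single t 1) i) * y i = 0) → y = 0) :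
    Function.Surjective f := by
  classical
  rw [← LinearMap.range_eq_top]
  let I : Ideal A := (LinearMap.range f).colon ⊤
  suffices hI : I = ⊤ by
    refine eq_top_iff.2 fun v _ => ?_
    have := Submodule.mem_colon.1 (hI ▸ Submodule.mem_top : (1 : A) ∈ I) v trivial
    rwa [one_smul] at this
  by_contra hI
  obtain ⟨p, hp, hIp⟩ := Ideal.exists_le_maximal I hI
  letI : Field (A ⧸ p) := Ideal.Quotient.field p
  let π := Ideal.Quotient.mk p
  let g : (Fin r → A ⧸ p) →ₗ[A ⧸ p] (Fin q → A ⧸ p) :=
    Fintype.linearCombination (A ⧸ p) fun t i => π (f (Pi.single t 1) i)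
  have hg : LinearMap.range g = ⊤ := by
    by_contra hne
    obtain ⟨φ, hφ0, hφ⟩ := Submodule.exists_dual_map_eq_bot_of_lt_top (lt_top_iff_ne_top.2 hne)
      inferInstance
    refine hφ0 ?_
    have hy := h p hp (fun i => φ (Pi.single i 1)) fun t => ?_
    · exact LinearMap.pi_ext' fun i => LinearMap.ext_ring (by simpa using congrFun hy i)
    · have h1 : φ (g (Pi.single t 1)) = 0 := by
        have : φ (g (Pi.single t 1)) ∈ (LinearMap.range g).map φ :=
          Submodule.mem_map_of_mem ⟨_, rfl⟩
        rwa [hφ, Submodule.mem_bot] at this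
      rw [Fintype.linearCombination_apply_single, one_smul,
        pi_eq_sum_univ' (fun i => π (f (Pi.single t 1) i))] at h1
      simpa [map_sum, smul_eq_mul] using h1
  have hle : (⊤ : Submodule A ((Fin q → A) ⧸ LinearMap.range f)) ≤ p • ⊤ := by
    rintro v -
    obtain ⟨v, rfl⟩ := Submodule.Quotient.mk_surjective _ v
    obtain ⟨d, hd⟩ : (fun i => π (v i)) ∈ LinearMap.range g := hg ▸ trivial
    choose d' hd' using fun t => Ideal.Quotient.mk_surjective (d t)
    let e := v - f d'
    have he : ∀ i, e i ∈ p := fun i => by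
      rw [← Ideal.Quotient.eq_zero_iff_mem, show e i = v i - f d' i from rfl, map_sub, sub_eq_zero]
      refine (congrFun hd i).symm.trans ?_
      rw [pi_eq_sum_univ' d', map_sum, Finset.sum_apply, map_sum, Fintype.linearCombination_apply,
        Finset.sum_apply]
      refine Finset.sum_congr rfl fun t _ => ?_
      simp [hd', π, map_mul, Pi.smul_apply]
    have : (Submodule.Quotient.mk v : (Fin q → A) ⧸ LinearMap.range f) = Submodule.Quotient.mk e :=
      (Submodule.Quotient.eq _).2 ⟨d', by simp [e]⟩
    rw [this, pi_eq_sum_univ' e, ← Submodule.mkQ_apply, map_sum]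
    refine Submodule.sum_mem _ fun i _ => ?_
    rw [map_smul]
    exact Submodule.smul_mem_smul (he i) trivial
  obtain ⟨r', hr, hr'⟩ := Submodule.exists_sub_one_mem_and_smul_eq_zero_of_fg_of_le_smul p ⊤
    (Module.finite_def.1 inferInstance) hle
  have hmem : r' ∈ I := Submodule.mem_colon.2 fun v _ => by
    have := hr' (Submodule.Quotient.mk v) trivial
    rwa [← Submodule.Quotient.mk_smul, Submodule.Quotient.mk_eq_zero] at this
  exact hp.ne_top ((Ideal.eq_top_iff_one p).2 (by simpa using p.sub_mem (hIp hmem) hr))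

end Groth.Tango
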