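import Groth.Agent.PnEuler.NullCorr
import Groth.Agent.PnEuler.TangoAlg
import Groth.Agent.LocFree.SES
import Groth.Agent.Variety2.ProjPoints
import Groth.Agent.QCohMod.Stalk

/-!
# A simple bundle of rank `n - 1` on `ℙⁿ`

The kernel of the epimorphism `O(-2)^{2n-1} → Ω` given by the Wronskian of binary forms.
-/

set_option autoImplicit false

universe u

open CategoryTheory CategoryTheory.Limits AlgebraicGeometry Opposite TopologicalSpace MvPolynomial
open Groth.Ega2Proj Groth.PicAux Groth.PnEuler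
open Abelian

noncomputable section

attribute [local instance] HasFiniteBiproducts.of_hasFiniteProducts

namespace Groth.Tango

variable {m : ℕ} {R : Type u} [CommRing R]

local notation "X₀" => CohB1.ProjSpace (m + 1) R
local notation "𝔓" => CohB1.polyGrading (m + 1) R
local notation "A₀" => MvPolynomial (Fin (m + 1 + 1)) R
local notation "Ω₀" => Omega.sheaf (CohB1.ProjSpace.toSpec (m + 1) R)
local notation "O₂" => Twist.twistProjSpace (m + 1) R (-2)
local notation "ι'" => Fin (2 * m + 1)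

variable (m R) in
/-- `O(-2)^{2n-1}`. -/
abbrev fam2 : Fin (2 * m + 1) → (CohB1.ProjSpace (m + 1) R).Modules :=
  fun _ => Twist.twistProjSpace (m + 1) R (-2)

variable (m R) in
/-- `O(-2)^{2n-1}`. -/
abbrev mid2 : (CohB1.ProjSpace (m + 1) R).Modules := ⨁ fam2 m R

/-- The `t`-th column of the Wronskian. -/
def wrMid (t : ℕ) : O₂ ⟶ mid (m + 1) R :=
  biproduct.lift fun l => cf (n := m + 1) t l • mul2 (ix (n := m + 1) t l)

theorem prj_wrMid (t : ℕ) (l : Fin (m + 1 + 1)) :
    wrMid t ≫ prj (m + 1) R l = cf (n := m + 1) t l • mul2 (R := R) (ix (n := m + 1) t l) :=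
  biproduct.lift_π (f := fam (m + 1) R) _ l

theorem wrMid_eps (t : ℕ) : wrMid (R := R) (m := m) t ≫ eps (m + 1) R = 0 := by
  have h := biproduct.lift_desc (f := fam (m + 1) R)
    (g := fun l => cf (n := m + 1) t l • mul2 (R := R) (ix (n := m + 1) t l))
    (h := fun l => mulX (R := R) l)
  refine h.trans (Groth.CohTwo.hom_ext_app fun U a => val_ext fun x hx => ?_)
  rw [app_sum, val_sum]
  change _ = (0 : L x)
  have e : ∀ l, val (((cf (n := m + 1) t l • mul2 (R := R) (ix (n := m + 1) t l)) ≫ mulX l).app U a) x hx =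
      cf (n := m + 1) t l • (algebraMap A₀ (L x) (MvPolynomial.X (ix (n := m + 1) t l)) *
        algebraMap A₀ (L x) (MvPolynomial.X l)) * val a x hx := fun l => by
      change val ((mulX l).app U ((cf (n := m + 1) t l • mul2 (R := R) (ix (n := m + 1) t l)).app U a)) x hx = _
      rw [val_mulX, zsmul_app, val_zsmul, val_mul2, mul_smul_comm, smul_mul_assoc]
      congr 1
      ring
  simp only [e]
  rw [← Finset.sum_mul]
  exact (congrArg (· * val a x hx) (sum_cf_self (n := m + 1) t fun l => algebraMap A₀ (L x) (MvPolynomial.X l))).trans (zero_mul _)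

theorem exists_v (t : ℕ) : ∃ v : O₂ ⟶ Ω₀, v ≫ iota (m + 1) R = wrMid t :=
  ⟨_, (shortExact_eulerSeq (n := m + 1) (R := R)).fIsKernel.fac
    (KernelFork.ofι _ (wrMid_eps t)) WalkingParallelPair.zero⟩

/-- The `t`-th column, valued in `Ω`. -/
def vcol (t : ℕ) : O₂ ⟶ Ω₀ := (exists_v t).choose

theorem vcol_app (t : ℕ) (j : Fin (m + 1 + 1)) : (vcol t).app (dOp j) (g2 (R := R) j) =
    ∑ p, ((cf (n := m + 1) t (j.succAbove p) : Γ(X₀, dOp (R := R) j)) *
      tt (R := R) j (ix (n := m + 1) t (j.succAbove p))) • frame j p := by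
  obtain ⟨c, hc⟩ := exists_comb j ((vcol t).app (dOp j) (g2 (R := R) j))
  have hc' : ∀ l, l ≠ j →
      c l = (cf (n := m + 1) t l : Γ(X₀, dOp (R := R) j)) * tt (R := R) j (ix (n := m + 1) t l) :=
    fun l hl => by
    have h1 := pi_iota_comb l j c
    rw [← hc, if_neg hl.symm, zero_mul, sub_zero] at h1
    have h2 : (prj (m + 1) R l).app (dOp j) ((wrMid t).app (dOp j) (g2 (R := R) j)) =
        c l • gg (R := R) j := by rw [← (exists_v (R := R) (m := m) t).choose_spec]; exact h1
    change (wrMid t ≫ prj (m + 1) R l).app (dOp j) (g2 (R := R) j) = _ at h2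
    rw [prj_wrMid, zsmul_app, mul2_g2, ← smul_assoc, zsmul_eq_mul] at h2
    exact gg_inj j h2.symm
  rw [hc, Fin.sum_univ_succAbove _ j, dOmega_tt_self, smul_zero, zero_add]
  exact Finset.sum_congr rfl fun p _ => by rw [hc' _ (Fin.succAbove_ne j p)]; rfl

variable (m R) in
/-- The Wronskian map. -/
def wr : mid2 m R ⟶ Ω₀ := biproduct.desc fun t => vcol t.1

theorem ι_wr (t : Fin (2 * m + 1)) : biproduct.ι (fam2 m R) t ≫ wr m R = vcol t.1 :=
  biproduct.ι_desc (f := fam2 m R) _ t

/-- The frame of `O(-2)^{2n-1}` on a chart. -/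
def bas2 (j : Fin (m + 1 + 1)) (t : Fin (2 * m + 1)) : Γ(mid2 m R, dOp (R := R) j) :=
  (biproduct.ι (fam2 m R) t).app (dOp j) (g2 j)

theorem basis'_bas2 (j : Fin (m + 1 + 1)) : Basis' (mid2 m R) (dOp j) (bas2 (R := R) j) := by
  intro V hV
  have hcoord : ∀ (c : ι' → Γ(X₀, V)) (t : ι'),
      (biproduct.π (fam2 m R) t).app V (∑ s, c s • res _ hV (bas2 (R := R) j s)) =
        c t • res O₂ hV (g2 j) := fun c t => by
    rw [map_sum, Finset.sum_eq_single t (fun s _ hs => ?_) (fun h => absurd (Finset.mem_univ _) h)]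
    · rw [Scheme.Modules.Hom.app_smul, app_res, bas2]
      exact congrArg (fun z => c t • res O₂ hV z)
        (congr($(biproduct.ι_π_self (fam2 m R) t).app (dOp j) (g2 (R := R) j)))
    · rw [Scheme.Modules.Hom.app_smul, app_res, bas2]
      have h : biproduct.ι (fam2 m R) s ≫ biproduct.π (fam2 m R) t = 0 := biproduct.ι_π_ne _ hs
      rw [show (biproduct.π (fam2 m R) t).app (dOp j) ((biproduct.ι (fam2 m R) s).app (dOp j) (g2 (R := R) j)) = 0
        from (congr(($h).app (dOp j) (g2 (R := R) j))), res_zero, smul_zero]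
  refine ⟨fun c c' h => funext fun t => (gen_g2 (R := R) j).smul_inj hV ?_, fun z => ?_⟩
  · dsimp only at h
    rw [← hcoord c t, ← hcoord c' t, h]
  · choose c hc using fun t => (gen_g2 (R := R) j).exists_coeff hV ((biproduct.π (fam2 m R) t).app V z)
    refine ⟨c, ?_⟩
    dsimp only
    conv_rhs => rw [show z = (𝟙 (mid2 m R) : mid2 m R ⟶ _).app V z from rfl,
      ← biproduct.total (f := fam2 m R), app_sum]
    refine Finset.sum_congr rfl fun t _ => ?_
    change _ = (biproduct.ι (fam2 m R) t).app V ((biproduct.π (fam2 m R) t).app V z)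
    rw [hc t, Scheme.Modules.Hom.app_smul, app_res]
    rfl

theorem wr_app (j : Fin (m + 1 + 1)) (c : ι' → Γ(X₀, dOp (R := R) j)) :
    (wr m R).app (dOp j) (∑ t, c t • bas2 j t) =
      ∑ p, (∑ t, c t * ((cf (n := m + 1) t (j.succAbove p) : Γ(X₀, dOp (R := R) j)) *
        tt (R := R) j (ix (n := m + 1) t (j.succAbove p)))) • frame j p := by
  rw [map_sum]
  simp only [Finset.sum_smul]
  rw [Finset.sum_comm]
  refine Finset.sum_congr rfl fun t _ => ?_
  rw [Scheme.Modules.Hom.app_smul, bas2,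
    show (wr m R).app (dOp j) ((biproduct.ι (fam2 m R) t).app (dOp j) (g2 (R := R) j)) =
      (vcol t.1).app (dOp j) (g2 (R := R) j) from congr($(ι_wr (R := R) t).app (dOp j) (g2 (R := R) j)),
    vcol_app, Finset.smul_sum]
  simp only [mul_smul]

end Groth.Tango

namespace Groth.Tango

variable {m : ℕ} {k : Type u} [Field k] [CharZero k]

local notation "X₀" => CohB1.ProjSpace (m + 1) k
local notation "Ω₀" => Omega.sheaf (CohB1.ProjSpace.toSpec (m + 1) k)

theorem scal_injective (j : Fin (m + 1 + 1)) : Function.Injective (scal (R := k) (dOp (n := m + 1) j)) := by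
  have hx : (Variety2.PSpace.eta (m + 1) k : ProjectiveSpectrum (CohB1.polyGrading (m + 1) k)) ∈ dOp (R := k) j := by
    intro h
    exact MvPolynomial.X_ne_zero j (Ideal.mem_bot.1 h)
  haveI : Nontrivial Γ(X₀, dOp (R := k) j) := (evalPt (dOp j) _ hx).domain_nontrivial
  exact RingHom.injective _

/-- The Wronskian map is surjective on each chart. -/
theorem exists_app_eq (j : Fin (m + 1 + 1)) (w : Γ(Ω₀, dOp (R := k) j)) :
    ∃ z : Γ(mid2 m k, dOp (R := k) j), (wr m k).app (dOp j) z = w := by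
  classical
  obtain ⟨d, rfl⟩ := (bijective_frame j).2 w
  let f : (Fin (2 * m + 1) → Γ(X₀, dOp (R := k) j)) →ₗ[Γ(X₀, dOp (R := k) j)]
      (Fin (m + 1) → Γ(X₀, dOp (R := k) j)) :=
    Fintype.linearCombination _ fun t p => (cf (n := m + 1) t (j.succAbove p) : Γ(X₀, dOp (R := k) j)) *
      tt (R := k) j (ix (n := m + 1) t (j.succAbove p))
  have hf : Function.Surjective f := by
    refine surjective_of_forall_maximal f fun p hp y hy => ?_
    letI : Field (Γ(X₀, dOp (R := k) j) ⧸ p) := Ideal.Quotient.field p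
    let π := Ideal.Quotient.mk p
    haveI : CharZero (Γ(X₀, dOp (R := k) j) ⧸ p) :=
      charZero_of_injective_ringHom (RingHom.injective (π.comp (scal (dOp (R := k) j))))
    let Y : Fin (m + 1 + 1) → Γ(X₀, dOp (R := k) j) ⧸ p :=
      Fin.insertNth (α := fun _ => Γ(X₀, dOp (R := k) j) ⧸ p) j 0 y
    have hY := eq_zero_of_wronskian (N := 2 * m + 1) (by omega) (fun l => π (tt j l)) Y j
      (by rw [tt_self, map_one]) (Fin.insertNth_apply_same _ _ _) fun t => by
        rw [Fin.sum_univ_succAbove _ j]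
        simp only [Y, Fin.insertNth_apply_same, mul_zero, zero_add, Fin.insertNth_apply_succAbove]
        refine Eq.trans (Finset.sum_congr rfl fun q _ => ?_) (hy t)
        simp [f, Fintype.linearCombination_apply_single, π, mul_assoc]
    funext q
    have := congrFun hY (j.succAbove q)
    simpa [Y] using this
  obtain ⟨c, hc⟩ := hf d
  refine ⟨∑ t, c t • bas2 j t, ?_⟩
  rw [wr_app]
  refine Finset.sum_congr rfl fun p _ => ?_
  rw [← hc, Fintype.linearCombination_apply, Finset.sum_apply]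
  simp only [Pi.smul_apply, smul_eq_mul]

theorem epi_wr : Epi (wr m k) := by
  refine (Groth.QCohMod.epi_iff_stalk _).2 fun x w => ?_
  obtain ⟨j, hj⟩ := exists_mem_dOp (R := k) (x : ProjectiveSpectrum (CohB1.polyGrading (m + 1) k))
  obtain ⟨W, hxW, s, rfl⟩ := TopCat.Presheaf.exists_germ_eq (Ω₀).presheaf w
  let V : (X₀).Opens := W ⊓ dOp j
  have hxV : x ∈ V := ⟨hxW, hj⟩
  obtain ⟨c, hc⟩ := ((Groth.KTheory.LocFree.basis'_of_affine (isAffineOpen_dOp (R := k) j) _
    (bijective_frame j)) V inf_le_right).2 (res Ω₀ inf_le_left s)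
  dsimp only at hc
  choose z hz using fun p => exists_app_eq (k := k) j (frame j p)
  refine ⟨(mid2 m k).presheaf.germ V x hxV (∑ p, c p • res _ inf_le_right (z p)), ?_⟩
  erw [TopCat.Presheaf.stalkFunctor_map_germ_apply V x hxV (wr m k).mapPresheaf]
  rw [Scheme.Modules.mapPresheaf_app, ← (Ω₀).presheaf.germ_res_apply (homOfLE (inf_le_left : V ≤ W)) x hxV s]
  refine congrArg _ (Eq.trans ?_ hc)
  change (wr m k).app V _ = _
  rw [map_sum]
  exact Finset.sum_congr rfl fun p _ => by rw [Scheme.Modules.Hom.app_smul, app_res, hz]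

variable (m k) in
/-- The Wronskian sequence. -/
def seq : ShortComplex (CohB1.ProjSpace (m + 1) k).Modules :=
  ShortComplex.mk (kernel.ι (wr m k)) (wr m k) (kernel.condition _)

theorem shortExact_seq : (seq m k).ShortExact :=
  { exact := ShortComplex.exact_of_f_is_kernel _ (kernelIsKernel _)
    mono_f := by dsimp [seq]; infer_instance
    epi_g := epi_wr }

theorem isFinLocFreeOfRank_mid2 : FlatMod.IsFinLocFreeOfRank (2 * m + 1) (mid2 m k) := by
  refine Groth.LocFree.isFinLocFreeOfRank_iff.2 fun x => ?_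
  obtain ⟨j, hj⟩ := exists_mem_dOp (R := k) (x : ProjectiveSpectrum (CohB1.polyGrading (m + 1) k))
  exact ⟨dOp j, bas2 j, hj, basis'_bas2 j⟩

theorem isFinLocFreeOfRank_kernel : FlatMod.IsFinLocFreeOfRank m (kernel (wr m k)) :=
  Groth.LocFree.isFinLocFreeOfRank_left (b := m + 1) shortExact_seq
    (show FlatMod.IsFinLocFreeOfRank (m + (m + 1)) (mid2 m k) by
      rw [show m + (m + 1) = 2 * m + 1 by omega]; exact isFinLocFreeOfRank_mid2)
    isFinLocFreeOfRank_omega

/-- `Ext¹(Ω, O(-2)) = 0`. -/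
theorem ext_omega_eq_zero [HasExt.{u} (CohB1.ProjSpace (m + 1) k).Modules]
    (x : Ext Ω₀ (Twist.twistProjSpace (m + 1) k (-2)) 1) : x = 0 := by
  have hS := shortExact_eulerSeq (n := m + 1) (R := k)
  have h3 : ∀ y : Ext (Twist.twistProjSpace (m + 1) k 0) (Twist.twistProjSpace (m + 1) k (-2)) 2, y = 0 :=
    fun y => ext_twist_eq_zero' _ _ 2
      (Groth.PnCoh.subsingleton_HH_twist _ 2 (by omega) (by omega)) y
  have h2 : ∀ y : Ext (mid (m + 1) k) (Twist.twistProjSpace (m + 1) k (-2)) 1, y = 0 := fun y => by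
    rw [← Ext.mk₀_id_comp y, ← biproduct.total (f := fam (m + 1) k), Ext.mk₀_sum, Ext.sum_comp]
    refine Finset.sum_eq_zero fun i _ => ?_
    rw [← Ext.mk₀_comp_mk₀, Ext.comp_assoc_of_second_deg_zero,
      ext_twist_eq_zero' _ _ 1 (Groth.PnCoh.subsingleton_HH_twist _ 1 (by omega) (by omega))
        ((Ext.mk₀ (biproduct.ι (fam (m + 1) k) i)).comp y (zero_add _)), Ext.comp_zero]
  obtain ⟨y, rfl⟩ := Ext.contravariant_sequence_exact₁ hS _ x (show 1 + 1 = 2 from rfl) (h3 _)
  rw [h2 y]
  exact Ext.comp_zero _ _ _ _ _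

/-- The kernel of the Wronskian map is simple. -/
theorem exists_eq_scalar_kernel (φ : kernel (wr m k) ⟶ kernel (wr m k)) :
    ∃ c : k, φ = Groth.HilbStab.scalar (scal ⊤ c) _ := by
  haveI : HasExt.{u} (CohB1.ProjSpace (m + 1) k).Modules := hasExt_of_enoughInjectives _
  have hS := shortExact_seq (m := m) (k := k)
  have hext : ∀ t : Fin (2 * m + 1), ∃ χ : mid2 m k ⟶ Twist.twistProjSpace (m + 1) k (-2),
      kernel.ι (wr m k) ≫ χ = φ ≫ kernel.ι (wr m k) ≫ biproduct.π (fam2 m k) t := fun t => by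
    obtain ⟨y, hy⟩ := Ext.contravariant_sequence_exact₁ hS _
      (Ext.mk₀ (φ ≫ kernel.ι (wr m k) ≫ biproduct.π (fam2 m k) t)) (show 1 + 0 = 1 from rfl)
      (ext_omega_eq_zero _)
    obtain ⟨χ, rfl⟩ := (Ext.mk₀_bijective _ _).2 y
    refine ⟨χ, (Ext.mk₀_bijective _ _).1 ?_⟩
    rw [← Ext.mk₀_comp_mk₀]
    exact hy
  choose χ hχ using hext
  let Ψ : mid2 m k ⟶ mid2 m k := biproduct.lift χ
  have hΨ : kernel.ι (wr m k) ≫ Ψ = φ ≫ kernel.ι (wr m k) :=
    biproduct.hom_ext (f := fam2 m k) _ _ fun t => by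
      rw [Category.assoc, Category.assoc]
      exact (congrArg (kernel.ι (wr m k) ≫ ·) (biproduct.lift_π (f := fam2 m k) χ t)).trans (hχ t)
  have hκ : kernel.ι (wr m k) ≫ (Ψ ≫ wr m k) = 0 := by
    rw [← Category.assoc, hΨ, Category.assoc, kernel.condition, comp_zero]
  let θ : Ω₀ ⟶ Ω₀ := hS.gIsCokernel.desc (CokernelCofork.ofπ (Ψ ≫ wr m k) hκ)
  have hθ : wr m k ≫ θ = Ψ ≫ wr m k :=
    hS.gIsCokernel.fac (CokernelCofork.ofπ _ hκ) WalkingParallelPair.one
  obtain ⟨c, hc⟩ := exists_eq_scalar_omega θ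
  rw [hc, ← scalar_comp] at hθ
  let D := Ψ - Groth.HilbStab.scalar (scal ⊤ c) (mid2 m k)
  have hD : D ≫ wr m k = 0 := by rw [Preadditive.sub_comp, hθ, sub_self]
  have hD0 : D = 0 := by
    refine biproduct.hom_ext' (f := fam2 m k) _ _ fun s => biproduct.hom_ext (f := fam2 m k) _ _ fun t => ?_
    rw [comp_zero, zero_comp]
    choose r hr using fun t => exists_hom_twist_eq_scal (-2)
      (biproduct.ι (fam2 m k) s ≫ D ≫ biproduct.π (fam2 m k) t)
    suffices hr0 : r t = 0 by
      refine Groth.CohTwo.hom_ext_app fun U a => ?_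
      rw [Category.assoc]
      refine (hr t U a).trans ?_
      rw [hr0, map_zero, zero_smul]
      rfl
    obtain ⟨l, hv, hl⟩ : ∃ l : Fin (m + 1 + 1), Valid t l (m + 1) ∧ 2 * (l : ℕ) ≠ (t : ℕ) + 1 := by
      have := t.isLt
      by_cases ht : (t : ℕ) + 1 ≤ m + 1
      · exact ⟨0, ⟨by simp, by simpa using ht⟩, by simp⟩
      · exact ⟨Fin.last _, ⟨by simp; omega, by simp; omega⟩, by simp; omega⟩
    obtain ⟨j, hjdef⟩ : ∃ j, j = ix (n := m + 1) t l := ⟨_, rfl⟩
    have hlj : l ≠ j := fun e => hl (by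
      have := congrArg Fin.val e
      rw [hjdef, ix_val hv] at this
      have h2 := hv
      simp only [Valid] at h2
      omega)
    obtain ⟨q, rfl⟩ := Fin.exists_succAbove_eq hlj
    -- the image of the `s`-th frame vector
    have h1 : ∑ u, scal (dOp (R := k) j) (r u) • bas2 j u = (biproduct.ι (fam2 m k) s ≫ D).app (dOp j) (g2 j) := by
      conv_rhs => rw [← Category.comp_id (biproduct.ι (fam2 m k) s ≫ D), ← biproduct.total (f := fam2 m k),
        Preadditive.comp_sum, app_sum]
      refine Finset.sum_congr rfl fun u _ => ?_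
      change _ = (biproduct.ι (fam2 m k) u).app (dOp j)
        ((biproduct.ι (fam2 m k) s ≫ D ≫ biproduct.π (fam2 m k) u).app (dOp j) (g2 j))
      rw [hr, Scheme.Modules.Hom.app_smul]
      rfl
    have h2 : (wr m k).app (dOp j) (∑ u, scal (dOp (R := k) j) (r u) • bas2 j u) = 0 := by
      rw [h1]
      exact congr($(show (biproduct.ι (fam2 m k) s ≫ D) ≫ wr m k = 0 by
        rw [Category.assoc, hD, comp_zero]).app (dOp j) (g2 (R := k) j))
    rw [wr_app] at h2
    have h3 := congrFun ((bijective_frame j).1 (h2.trans (by simp :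
      (0 : Γ(Ω₀, dOp (R := k) j)) = ∑ p, (0 : Fin (m + 1) → Γ(X₀, dOp (R := k) j)) p • frame j p))) q
    rw [Pi.zero_apply] at h3
    let a : Fin (m + 1 + 1) → k := fun i =>
      ∑ u : Fin (2 * m + 1), if ix (n := m + 1) u (j.succAbove q) = i then (cf (n := m + 1) u (j.succAbove q) : k) * r u else 0
    have h4 : ∑ i, scal (dOp (R := k) j) (a i) * tt (R := k) j i =
        scal (dOp j) 0 * tt (R := k) j j := by
      rw [map_zero, zero_mul]
      refine Eq.trans ?_ h3
      simp only [a, map_sum, Finset.sum_mul]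
      rw [Finset.sum_comm]
      refine Finset.sum_congr rfl fun u _ => ?_
      rw [Finset.sum_eq_single (ix (n := m + 1) u (j.succAbove q)) (fun i _ hi => ?_)
        (fun h => absurd (Finset.mem_univ _) h), if_pos rfl, map_mul, map_intCast]
      · ring
      · rw [if_neg (Ne.symm hi), map_zero, zero_mul]
    have h5 := const_relation j j a 0 j h4
    rw [if_pos rfl, map_zero] at h5
    have h6 : a j = 0 := scal_injective j (h5.trans (map_zero _).symm)
    simp only [a] at h6
    rw [Finset.sum_eq_single t (fun u _ hu => ?_) (fun h => absurd (Finset.mem_univ _) h),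
      if_pos hjdef.symm] at h6
    · refine (mul_eq_zero.1 h6).resolve_left ?_
      rw [cf, if_pos hv]
      exact_mod_cast (show (2 * ((j.succAbove q : Fin _) : ℕ) : ℤ) - (((t : ℕ) : ℤ) + 1) ≠ 0 by omega)
    · split_ifs with hu'
      · by_cases hvu : Valid u (j.succAbove q) (m + 1)
        · exfalso
          refine hu (Fin.ext ?_)
          have e1 := ix_val hvu
          have e2 := ix_val hv
          rw [hu'] at e1
          rw [← hjdef] at e2
          simp only [Valid] at hvu hv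
          omega
        · simp [cf, hvu]
      · rfl
  refine ⟨c, (cancel_mono (kernel.ι (wr m k))).1 ?_⟩
  rw [← hΨ, scalar_comp, sub_eq_zero.1 hD0]

end Groth.Tango
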